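import Cfsg.Agent.Lib.PSL2.MinimalSimple

/-!
# Non-solvable pyramidal groups

`F² ⋊ SL₂(F)` has one class of `|F|²` involutions for a finite field `F` of odd characteristic, and
is not solvable once `|F| ≥ 4`.
-/

set_option autoImplicit false

namespace Cfsg.Agent.Pyramidal

open Matrix MatrixGroups

variable (F : Type) [Field F]

/-- The natural action on column vectors. -/
def natAct : SL(2, F) →* MulAut (Multiplicative (Fin 2 → F)) where
  toFun g := AddEquiv.toMultiplicative (Matrix.SpecialLinearGroup.toLin' g).toAddEquiv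
  map_one' := MulEquiv.ext fun v => by simp
  map_mul' g h := MulEquiv.ext fun v => by simp

/-- `F² ⋊ SL₂(F)`. -/
abbrev Pyr : Type := Multiplicative (Fin 2 → F) ⋊[natAct F] SL(2, F)

theorem natAct_apply (g : SL(2, F)) (v : Fin 2 → F) :
    natAct F g (Multiplicative.ofAdd v) = Multiplicative.ofAdd ((g : Matrix (Fin 2) (Fin 2) F) *ᵥ v) := rfl

theorem sl2_sq [NeZero (2 : F)] {g : SL(2, F)} (hg : g * g = 1) : g = 1 ∨ g = -1 := by
  have h1 : g⁻¹ = g := inv_eq_of_mul_eq_one_right hg
  have h2 : (g : Matrix (Fin 2) (Fin 2) F).adjugate = g := by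
    rw [← Matrix.SpecialLinearGroup.coe_inv, h1]
  rw [Matrix.adjugate_fin_two] at h2
  have hb : (g : Matrix (Fin 2) (Fin 2) F) 0 1 = 0 := by
    have := congrFun (congrFun h2 0) 1
    simp at this
    have h3 : (2 : F) * (g : Matrix (Fin 2) (Fin 2) F) 0 1 = 0 := by linear_combination -this
    exact (mul_eq_zero.1 h3).resolve_left two_ne_zero
  have hc : (g : Matrix (Fin 2) (Fin 2) F) 1 0 = 0 := by
    have := congrFun (congrFun h2 1) 0
    simp at this
    have h3 : (2 : F) * (g : Matrix (Fin 2) (Fin 2) F) 1 0 = 0 := by linear_combination -this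
    exact (mul_eq_zero.1 h3).resolve_left two_ne_zero
  have hd : (g : Matrix (Fin 2) (Fin 2) F) 1 1 = (g : Matrix (Fin 2) (Fin 2) F) 0 0 := by
    have := congrFun (congrFun h2 0) 0
    simpa using this
  have hdet := g.det_coe
  rw [Matrix.det_fin_two, hb, hd, hc, mul_zero, sub_zero] at hdet
  rcases mul_self_eq_one_iff.1 hdet with h | h
  · left
    ext i j
    fin_cases i <;> fin_cases j <;> simp [h, hb, hc, hd]
  · right
    ext i j
    fin_cases i <;> fin_cases j <;> simp [h, hb, hc, hd]

theorem pyr_inv [NeZero (2 : F)] (x : Pyr F) : orderOf x = 2 ↔ x.right = -1 := by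
  haveI : Fact (Nat.Prime 2) := ⟨Nat.prime_two⟩
  rw [orderOf_eq_prime_iff, sq]
  constructor
  · rintro ⟨hx, hx1⟩
    have hr : x.right * x.right = 1 := congrArg SemidirectProduct.right hx
    refine (sl2_sq F hr).resolve_left fun h => hx1 (SemidirectProduct.ext ?_ h)
    have hl := congrArg SemidirectProduct.left hx
    rw [SemidirectProduct.mul_left, h, map_one, MulAut.one_apply, SemidirectProduct.one_left] at hl
    have h2 : x.left.toAdd + x.left.toAdd = 0 := congrArg Multiplicative.toAdd hl
    apply Multiplicative.toAdd.injective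
    funext i
    have h3 := congrFun h2 i
    simp only [Pi.add_apply, Pi.zero_apply, ← two_mul] at h3
    exact (mul_eq_zero.1 h3).resolve_left two_ne_zero
  · intro hr
    refine ⟨SemidirectProduct.ext ?_ ?_, fun h => ?_⟩
    · rw [SemidirectProduct.mul_left, hr, SemidirectProduct.one_left]
      apply Multiplicative.toAdd.injective
      rw [← ofAdd_toAdd x.left, natAct_apply, toAdd_mul, toAdd_ofAdd, toAdd_ofAdd, toAdd_one,
        Matrix.SpecialLinearGroup.coe_neg, Matrix.SpecialLinearGroup.coe_one, Matrix.neg_mulVec,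
        Matrix.one_mulVec, add_neg_cancel]
    · rw [SemidirectProduct.mul_right, hr, SemidirectProduct.one_right]
      exact Subtype.ext (by simp)
    · have h00 := congrFun (congrFun (congrArg Subtype.val (hr.symm.trans ((congrArg SemidirectProduct.right h : x.right = 1)))) 0) 0
      simp at h00
      exact two_ne_zero (by linear_combination -h00 : (2 : F) = 0)

theorem pyr_card [NeZero (2 : F)] :
    Nat.card {x : Pyr F // orderOf x = 2} = Nat.card F ^ 2 := by
  rw [Nat.card_congr (Equiv.subtypeEquivRight (pyr_inv F))]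
  rw [Nat.card_congr (show {x : Pyr F // x.right = -1} ≃ (Fin 2 → F) from
    { toFun := fun x => x.1.left.toAdd
      invFun := fun v => ⟨⟨Multiplicative.ofAdd v, -1⟩, rfl⟩
      left_inv := fun x => Subtype.ext (SemidirectProduct.ext rfl x.2.symm)
      right_inv := fun v => rfl }), Nat.card_fun, Nat.card_eq_fintype_card (α := Fin 2), Fintype.card_fin]

theorem pyr_conj [NeZero (2 : F)] (x y : Pyr F) (hx : orderOf x = 2) (hy : orderOf y = 2) :
    ∃ g : Pyr F, g * x * g⁻¹ = y := by
  rw [pyr_inv] at hx hy
  refine ⟨⟨Multiplicative.ofAdd ((2 : F)⁻¹ • (y.left.toAdd - x.left.toAdd)), 1⟩, ?_⟩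
  rw [mul_inv_eq_iff_eq_mul]
  refine SemidirectProduct.ext ?_ ?_
  · rw [SemidirectProduct.mul_left, SemidirectProduct.mul_left, map_one, MulAut.one_apply, hy,
      natAct_apply]
    apply Multiplicative.toAdd.injective
    rw [toAdd_mul, toAdd_mul, toAdd_ofAdd, toAdd_ofAdd, Matrix.SpecialLinearGroup.coe_neg,
      Matrix.SpecialLinearGroup.coe_one, Matrix.neg_mulVec, Matrix.one_mulVec]
    funext i
    simp only [Pi.add_apply, Pi.neg_apply, Pi.smul_apply, Pi.sub_apply, smul_eq_mul]
    field_simp
    ring
  · rw [SemidirectProduct.mul_right, SemidirectProduct.mul_right, one_mul, mul_one, hx, hy]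

theorem pyr_not_solvable [Fintype F] [DecidableEq F] (h : 4 ≤ Fintype.card F) :
    ¬ Group.IsSolvable (Pyr F) := by
  intro hs
  haveI := hs
  refine PSL2.not_isSolvable_psl h
    (Group.isSolvable_of_surjective (f := PSL2.mk.comp (SemidirectProduct.rightHom (φ := natAct F))) ?_)
  exact PSL2.mk_surjective.comp SemidirectProduct.rightHom_surjective

end Cfsg.Agent.Pyramidal
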