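import Cfsg.Agent.Lib.Pyramidal.Sign
import Cfsg.Agent.Lib.CamKan.Main
import Cfsg.Agent.Lib.L32Radical.Linear

/-!
# Anisotropic quadratic maps onto the natural module of `GL₃(2)`

An anisotropic quadratic map `q : V → 𝔽₂³`, equivariant for a linear action of `GL₃(2)` on `V`,
has zero polar form.
-/

set_option autoImplicit false
set_option linter.style.haveILetI false

namespace Cfsg.Agent.Pyramidal

open Module Matrix Cfsg.Agent.CamKan
open Cfsg.Agent.L32Radical (Nat3 GL32 ac va vb vc gu ge ge1 gr gt gsw gbc gp ac_mul ac_one ac_inv_ac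
  ac_add ac_zero)

universe u

/-- An element of order seven normalised by `gt`. -/
def gs : GL32 := ⟨!![0,0,1;1,0,1;0,1,0], !![1,1,0;0,0,1;1,0,0], by decide, by decide⟩

theorem gs_facts : gt * gs = gs ^ 2 * gt ∧ gs ^ 7 = 1 ∧ gt ^ 3 = 1 := by decide

theorem gen_facts : ge = gu * gu ∧ ge1 = gu⁻¹ * gr ∧ ge * gt = gt * (ge * ge1) ∧ ge1 * gt = gt * ge ∧
    gt * ge * gt⁻¹ = ge1 ∧ gt * ge1 * gt⁻¹ = ge * ge1 ∧ gt * (ge * ge1) * gt⁻¹ = ge ∧
    gu * gr = gr * gu⁻¹ ∧ ge * ge = 1 ∧ ge1 * ge1 = 1 ∧ gr * gr = 1 ∧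
    ge * ge1 = ge1 * ge := by decide

theorem fix_four : ∀ v, ac ge v = v → ac ge1 v = v → v = 0 ∨ v = va := by decide

theorem fix_gtv : ∀ v, ac gt v = v → v = 0 ∨ v = va := by decide

theorem fix_line : ∀ v, ac gsw v = v → ac ge1 v = v → ac ge v = v → v = 0 := by decide

theorem fix_gs : ∀ v, ac gs v = v → v = 0 := by decide

theorem vec_facts : va ≠ 0 ∧ vb ≠ 0 ∧ vc ≠ 0 ∧ va ≠ vb ∧ va + vb ≠ 0 ∧ ac gu va = va ∧
    ac gu vb = va + vb ∧ ac gu vc = vb + vc ∧ ac gr va = va ∧ ac gr vc = vb + vc ∧ ac gsw va = vb ∧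
    ac gsw vb = va ∧ ac gsw (va + vb) = va + vb ∧ ac ge1 va = va ∧ ac ge1 vb = va + vb ∧
    ac ge1 (va + vb) = vb ∧ ac gt va = va ∧ ac ge va = va ∧ vb + vc ≠ 0 ∧
    ac ge (vb + vc) + ac ge1 (vb + vc) = 0 ∧ ac ge vc ≠ ac ge1 vc ∧ ac ge vb = vb := by decide

theorem eq_expand : ∀ x : Nat3, x = x 0 • va + x 1 • vb + x 2 • vc := by decide

theorem stab_list : ∀ B C : Nat3, B ≠ 0 → B ≠ va → C ≠ 0 → C ≠ va → C ≠ B → C ≠ va + B →
    ∃ a ∈ [1, ge, ge1, ge * ge1], ∃ b ∈ [1, gt, gt * gt, gr, gr * gt, gr * (gt * gt)],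
      ac (a * b) vb = B ∧ ac (a * b) vc = C := by decide +kernel

theorem pair_list : ∀ y : Nat3, y ≠ 0 → y ≠ va →
    ∃ b ∈ [1, gbc, ge1, ge * gbc, gt * gt, ge * (gt * gt)], ac b va = va ∧ ac b vb = y := by
  decide +kernel

theorem dual_list : ∀ b : Nat3, b ≠ 0 → ∃ g ∈ [1, gsw, gp⁻¹, ge, ge1, ge * ge1, gsw * gr],
    ∀ y : Nat3, ac g y 0 = b 0 * y 0 + b 1 * y 1 + b 2 * y 2 := by decide +kernel

theorem flag_maps : ∀ B C : Nat3, ac gu B = va + B → ac gu C = B + C → ac gr C = B + C →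
    B ≠ 0 → B = vb ∧ (C = vc ∨ C = va + vc) ∨ B = va + vb ∧ False := by decide

theorem ac_smul (g : GL32) (r : ZMod 2) (v : Nat3) : ac g (r • v) = r • ac g v :=
  Matrix.mulVec_smul _ _ _

theorem gl32_ext {g h : GL32} (ha : ac g va = ac h va) (hb : ac g vb = ac h vb)
    (hc : ac g vc = ac h vc) : g = h := by
  refine Units.ext (Matrix.toLin'.injective (LinearMap.ext fun x => ?_))
  rw [Matrix.toLin'_apply, Matrix.toLin'_apply]
  change ac g x = ac h x
  rw [eq_expand x]
  simp only [ac_add, ac_smul, ha, hb, hc]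

theorem ac_injective (g : GL32) : Function.Injective (ac g) := fun v w h => by
  rw [← ac_inv_ac g v, ← ac_inv_ac g w]; exact congrArg _ h

/-- The stabiliser of `va` is generated by four elements. -/
theorem stab_gen (S : Subgroup GL32) (he : ge ∈ S) (he1 : ge1 ∈ S) (ht : gt ∈ S) (hr : gr ∈ S)
    {g : GL32} (hg : ac g va = va) : g ∈ S := by
  have hne : ∀ x : Nat3, x ≠ 0 → ac g x ≠ 0 := fun x hx e => hx (ac_injective g (e.trans (ac_zero g).symm))
  have hne' : ∀ x : Nat3, x ≠ va → ac g x ≠ va := fun x hx e => hx (ac_injective g (e.trans hg.symm))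
  obtain ⟨a, ha, b, hb, h1, h2⟩ := stab_list (ac g vb) (ac g vc) (hne _ (by decide)) (hne' _ (by decide))
    (hne _ (by decide)) (hne' _ (by decide)) (fun e => absurd (ac_injective g e) (by decide))
    (fun e => absurd (ac_injective g (e.trans (by rw [← hg, ← ac_add]))) (by decide))
  have haS : a ∈ S ∧ ac a va = va := by
    fin_cases ha
    · exact ⟨one_mem _, ac_one _⟩
    · exact ⟨he, by decide⟩
    · exact ⟨he1, by decide⟩
    · exact ⟨mul_mem he he1, by decide⟩
  have hbS : b ∈ S ∧ ac b va = va := by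
    fin_cases hb
    · exact ⟨one_mem _, ac_one _⟩
    · exact ⟨ht, by decide⟩
    · exact ⟨mul_mem ht ht, by decide⟩
    · exact ⟨hr, by decide⟩
    · exact ⟨mul_mem hr ht, by decide⟩
    · exact ⟨mul_mem hr (mul_mem ht ht), by decide⟩
  rw [show g = a * b from gl32_ext (by rw [hg, ac_mul, hbS.2, haS.2]) h1.symm h2.symm]
  exact mul_mem haS.1 hbS.1

/-- An involutive map of a finite set of odd order fixes an odd number of points. -/
theorem odd_fix {α : Type*} [DecidableEq α] (s : Finset α) (f : α → α) (hs : ∀ x ∈ s, f x ∈ s)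
    (hf : ∀ x ∈ s, f (f x) = x) (h : Odd s.card) : Odd (s.filter fun x => f x = x).card := by
  have h1 : ∑ _x ∈ s.filter (fun x => ¬ f x = x), (1 : ZMod 2) = 0 := by
    refine Finset.sum_involution (fun x _ => f x) (fun _ _ => by decide)
      (fun x hx _ => (Finset.mem_filter.1 hx).2)
      (fun x hx => ?_) (fun x hx => hf x (Finset.mem_filter.1 hx).1)
    obtain ⟨hxs, hne⟩ := Finset.mem_filter.1 hx
    exact Finset.mem_filter.2 ⟨hs x hxs, fun e => hne (e.symm.trans (hf x hxs))⟩
  rw [Finset.sum_const, nsmul_one, ZMod.natCast_eq_zero_iff_even] at h1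
  rw [← Finset.card_filter_add_card_filter_not (fun x => f x = x)] at h
  exact (Nat.odd_add.1 h).2 h1

variable {V : Type u} [AddCommGroup V] [Module (ZMod 2) V] [Finite V]

/-- If no non-zero vector is fixed by an element of order seven, some is fixed by an element of
order three normalising it. -/
theorem exists_fixed_gt (ρ : GL32 →* (V ≃ₗ[ZMod 2] V)) (hs : ∀ v, ρ gs v = v → v = 0)
    {v : V} (hv : v ≠ 0) : ∃ w, w ≠ 0 ∧ ρ gt w = w := by
  by_contra hc
  have ht : ∀ w, ρ gt w = w → w = 0 := fun w hw => by_contra fun hw0 => hc ⟨w, hw0, hw⟩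
  apply hv
  obtain ⟨hts, hs7, ht3⟩ := gs_facts
  have hmul : ∀ g h x, ρ g (ρ h x) = ρ (g * h) x := fun g h x => by rw [map_mul]; rfl
  have hone : ∀ x, ρ 1 x = x := fun x => by rw [map_one]; rfl
  have hsum : ∀ x, ∑ i ∈ Finset.range 7, ρ (gs ^ i) x = 0 := by
    intro x
    refine hs _ ?_
    rw [map_sum]
    simp only [hmul, ← pow_succ', Finset.sum_range_succ, Finset.sum_range_zero, hs7,
      zero_add, pow_zero, hone]
    abel
  have hti : ∀ i : ℕ, gs ^ i * gt * (gs ^ i * gt) = gs ^ (3 * i) * (gt * gt) := by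
    intro i
    have : gt * gs ^ i = gs ^ (2 * i) * gt := by
      induction i with
      | zero => simp
      | succ i ih => rw [pow_succ, ← mul_assoc, ih, mul_assoc, hts, ← mul_assoc, ← pow_add]; ring_nf
    rw [mul_assoc, ← mul_assoc gt, this, mul_assoc, ← mul_assoc, ← pow_add]
    ring_nf
  have htri : ∀ i : ℕ, ∀ x, x + ρ (gs ^ i * gt) x + ρ (gs ^ (3 * i) * (gt * gt)) x = 0 := by
    intro i x
    set t := gs ^ i * gt with htdef
    have hconj : t = (gs ^ i)⁻¹ * gt * gs ^ i := by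
      have hh : gt * gs ^ i = gs ^ (2 * i) * gt := by
        clear hti htdef t x
        induction i with
        | zero => simp
        | succ i ih => rw [pow_succ, ← mul_assoc, ih, mul_assoc, hts, ← mul_assoc, ← pow_add]; ring_nf
      rw [htdef, mul_assoc, hh, ← mul_assoc, two_mul, pow_add, inv_mul_cancel_left]
    have ht3' : t ^ 3 = 1 := by
      rw [hconj, ← MulAut.conj_inv_apply, ← map_pow, ht3, map_one]
    rw [← hti i]
    set y := x + ρ t x + ρ (t * t) x with hy
    have hfix : ρ t y = y := by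
      simp only [hy, map_add, hmul]
      rw [show t * (t * t) = 1 by rw [← ht3', pow_three], hone]
      abel
    have h2 : ρ gt (ρ (gs ^ i) y) = ρ (gs ^ i) y := by
      conv_rhs => rw [← hfix]
      rw [hmul, hmul, hconj]
      group
    have h3 := congrArg (ρ (gs ^ i)⁻¹) (ht _ h2)
    rwa [hmul, inv_mul_cancel, hone, map_zero] at h3
  have h0 : ∑ i ∈ Finset.range 7, (v + ρ (gs ^ i * gt) v + ρ (gs ^ (3 * i) * (gt * gt)) v) = 0 :=
    Finset.sum_eq_zero fun i _ => htri i v
  rw [Finset.sum_add_distrib, Finset.sum_add_distrib, Finset.sum_const, Finset.card_range] at h0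
  have h1 : ∑ i ∈ Finset.range 7, ρ (gs ^ i * gt) v = 0 := by
    simp only [← hmul]; exact hsum _
  have h2 : ∑ i ∈ Finset.range 7, ρ (gs ^ (3 * i) * (gt * gt)) v = 0 := by
    have := hsum (ρ (gt * gt) v)
    simp only [hmul] at this
    refine Eq.trans ?_ this
    have e : ∀ k, gs ^ k = gs ^ (k % 7) := fun k => pow_eq_pow_mod _ hs7
    simp only [Finset.sum_range_succ, Finset.sum_range_zero, zero_add]
    simp only [e (3 * 3), e (3 * 4), e (3 * 5), e (3 * 6)]
    norm_num
    abel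
  rw [h1, h2, add_zero, add_zero] at h0
  have h2v : (2 : ℕ) • v = 0 := by rw [two_nsmul]; exact vadd_self v
  calc v = 7 • v - 3 • ((2 : ℕ) • v) := by abel
    _ = 0 := by rw [h0, h2v, smul_zero, sub_zero]

/-- The theorem. -/
theorem quad_comm (ρ : GL32 →* (V ≃ₗ[ZMod 2] V)) (q : V → Nat3)
    (c : V →ₗ[ZMod 2] V →ₗ[ZMod 2] Nat3) (hq : ∀ v w, q (v + w) = q v + q w + c v w)
    (hani : ∀ v, q v = 0 → v = 0) (hequiv : ∀ g v, q (ρ g v) = ac g (q v)) :
    ∀ v w, c v w = 0 := by
  classical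
  letI := Fintype.ofFinite V
  have hmul : ∀ g h x, ρ g (ρ h x) = ρ (g * h) x := fun g h x => by rw [map_mul]; rfl
  have hone : ∀ x, ρ 1 x = x := fun x => by rw [map_one]; rfl
  obtain ⟨fe, fe1, fget, fge1t, fc1, fc2, fc3, fur, fee, fe1e1, frr, fcomm⟩ := gen_facts
  have hq0 : q 0 = 0 := by
    have h := hq 0 0
    simp only [add_zero, map_zero, vadd_self] at h
    exact h
  have hsymm : ∀ v w, c v w = c w v := fun v w => by
    have h := (hq v w).symm.trans ((congrArg q (add_comm v w)).trans (hq w v))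
    rw [add_comm (q w) (q v)] at h
    exact add_left_cancel h
  have hce : ∀ g v w, c (ρ g v) (ρ g w) = ac g (c v w) := fun g v w => by
    have h := hequiv g (v + w)
    rw [map_add, hq, hq, hequiv, hequiv, ac_add, ac_add] at h
    exact add_left_cancel h
  -- transitivity on functionals
  have hχ : ∀ χ : Dual (ZMod 2) Nat3, χ ≠ 0 → ∃ g, ∀ y, χ y = ac g y 0 := by
    intro χ hχ
    have he : ∀ y : Nat3, χ y = χ va * y 0 + χ vb * y 1 + χ vc * y 2 := fun y => by
      conv_lhs => rw [eq_expand y]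
      simp only [map_add, map_smul, smul_eq_mul, mul_comm]
    obtain ⟨g, -, hg⟩ := dual_list ![χ va, χ vb, χ vc] (fun e => hχ (LinearMap.ext fun y => by
      have e0 := congrFun e 0; have e1 := congrFun e 1; have e2 := congrFun e 2
      simp at e0 e1 e2
      rw [he, e0, e1, e2]; simp))
    exact ⟨g, fun y => by rw [he, hg]; simp⟩
  have htr : ∀ χ χ' : Dual (ZMod 2) Nat3, χ ≠ 0 → χ' ≠ 0 →
      ∃ s : V ≃ V, ∀ v, χ (q (s v)) = χ' (q v) := fun χ χ' h h' => by
    obtain ⟨g, hg⟩ := hχ χ h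
    obtain ⟨g', hg'⟩ := hχ χ' h'
    refine ⟨(ρ (g⁻¹ * g')).toEquiv, fun v => ?_⟩
    rw [LinearEquiv.coe_toEquiv, hg, hg', hequiv, ← ac_mul, mul_inv_cancel_left]
  have hW3 : finrank (ZMod 2) Nat3 = 3 := Module.finrank_fin_fun _
  by_cases hV : ∀ v : V, v = 0
  · intro v w; rw [hV v, map_zero]; rfl
  push Not at hV
  obtain ⟨vn, hvn⟩ := hV
  have hdim : finrank (ZMod 2) V = 3 ∨ (finrank (ZMod 2) V = 6 ∧
      ∀ χ : Dual (ZMod 2) Nat3, χ ≠ 0 → ∀ v, (∀ w, χ (c v w) = 0) → v = 0) := by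
    rcases dims q c hq hani (by omega) htr with h | h | ⟨h, hnd⟩
    · exfalso
      haveI : Subsingleton V := Module.finrank_zero_iff.1 h
      exact hvn (Subsingleton.elim _ _)
    · exact Or.inl (h.trans hW3)
    · exact Or.inr ⟨by rw [h, hW3], hnd⟩
  -- fibres
  obtain ⟨hva, hvb, hvc, hab, habne, ua, ub, uc, ra, rc, swa, swb, swab, ea, eb, eab, ta, eea, hbc,
    hsum0, hne01, eevb⟩ := vec_facts
  let fib : Nat3 → Finset V := fun y => Finset.univ.filter fun v => q v = y
  have hfib : ∀ y v, v ∈ fib y ↔ q v = y := fun y v => by simp [fib]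
  have hfib_card : ∀ y, y ≠ 0 → (fib y).card = (fib va).card := by
    intro y hy
    obtain ⟨g, hg⟩ := L32Radical.exists_ac_a hy
    refine (Finset.card_equiv (ρ g).toEquiv fun v => ?_).symm
    rw [hfib, hfib, LinearEquiv.coe_toEquiv, hequiv]
    exact ⟨fun h => by rw [h, hg], fun h => ac_injective g (h.trans hg.symm)⟩
  have hcount : 2 ^ finrank (ZMod 2) V = 1 + 7 * (fib va).card := by
    rw [← card_pow, Nat.card_eq_fintype_card, ← Finset.card_univ,
      Finset.card_eq_sum_card_fiberwise (f := q) (t := Finset.univ) (fun x _ => Finset.mem_univ _),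
      ← Finset.add_sum_erase _ _ (Finset.mem_univ (0 : Nat3)),
      Finset.sum_const_nat (m := (fib va).card) fun y hy => hfib_card y (Finset.ne_of_mem_erase hy)]
    congr 1
    rw [Finset.card_eq_one]
    exact ⟨0, by ext v; simp only [Finset.mem_filter, Finset.mem_univ, true_and,
      Finset.mem_singleton]; exact ⟨hani v, fun e => by rw [e, hq0]⟩⟩
  have hsfix : ∀ v, ρ gs v = v → v = 0 := fun v hv =>
    hani v (fix_gs _ (by rw [← hequiv, hv]))
  -- a vector fixed by the stabiliser of `va`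
  obtain ⟨v0, hv0q, hv0e, hv0e1, hv0t, hv0r⟩ : ∃ v, q v = va ∧ ρ ge v = v ∧ ρ ge1 v = v ∧
      ρ gt v = v ∧ ρ gr v = v := by
    rcases hdim with h | ⟨h, -⟩
    · rw [h] at hcount
      obtain ⟨v, hv⟩ := Finset.card_eq_one.1 (show (fib va).card = 1 by omega)
      have hvq : q v = va := (hfib va v).1 (hv ▸ Finset.mem_singleton_self v)
      have hst : ∀ g, ac g va = va → ρ g v = v := fun g hg =>
        Finset.mem_singleton.1 (hv ▸ (hfib va _).2 (by rw [hequiv, hvq, hg]))
      exact ⟨v, hvq, hst _ eea, hst _ ea, hst _ ta, hst _ ra⟩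
    rw [h] at hcount
    have h9 : (fib va).card = 9 := by omega
    have hfg : ∀ g, ac g va = va → ∀ x ∈ fib va, ρ g x ∈ fib va := fun g hg x hx => by
      rw [hfib] at hx ⊢; rw [hequiv, hx, hg]
    have h1 := odd_fix (fib va) (ρ ge) (hfg _ eea) (fun x _ => by rw [hmul, fee, hone])
      (h9 ▸ by decide)
    set s1 := (fib va).filter fun x => ρ ge x = x with hs1
    have h2 := odd_fix s1 (ρ gu) (fun x hx => by
        obtain ⟨hxf, hx⟩ := Finset.mem_filter.1 hx
        refine Finset.mem_filter.2 ⟨hfg _ ua x hxf, ?_⟩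
        conv_rhs => rw [← hx]
        rw [hmul, hmul, fe, mul_assoc])
      (fun x hx => by rw [hmul, ← fe]; exact (Finset.mem_filter.1 hx).2) h1
    set s2 := s1.filter fun x => ρ gu x = x with hs2
    have h3 := odd_fix s2 (ρ gr) (fun x hx => by
        obtain ⟨hx1, hx⟩ := Finset.mem_filter.1 hx
        obtain ⟨hxf, -⟩ := Finset.mem_filter.1 hx1
        have hxi : ρ gu⁻¹ x = x := by
          conv_lhs => rw [← hx]
          rw [hmul, inv_mul_cancel, hone]
        have hgr : ρ gu (ρ gr x) = ρ gr x := by rw [hmul, fur, ← hmul, hxi]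
        refine Finset.mem_filter.2 ⟨Finset.mem_filter.2 ⟨hfg _ ra x hxf, ?_⟩, hgr⟩
        rw [fe, ← hmul, hgr, hgr])
      (fun x _ => by rw [hmul, frr, hone]) h2
    obtain ⟨v, hv⟩ := Finset.card_pos.1 h3.pos
    obtain ⟨hv2, hvr⟩ := Finset.mem_filter.1 hv
    obtain ⟨hv1, hvu⟩ := Finset.mem_filter.1 hv2
    obtain ⟨hvf, hve⟩ := Finset.mem_filter.1 hv1
    have hve1 : ρ ge1 v = v := by
      rw [fe1, ← hmul, hvr]
      conv_lhs => rw [← hvu]
      rw [hmul, inv_mul_cancel, hone]
    refine ⟨v, (hfib _ _).1 hvf, hve, hve1, ?_, hvr⟩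
    by_contra hvt
    -- the fixed vectors of the four group
    have hFq : ∀ x, ρ ge x = x → ρ ge1 x = x → x ≠ 0 → q x = va := fun x hx hx1 hx0 =>
      (fix_four _ (by rw [← hequiv, hx]) (by rw [← hequiv, hx1])).resolve_left fun e => hx0 (hani x e)
    have hFt : ∀ x, ρ ge x = x → ρ ge1 x = x → ρ ge (ρ gt x) = ρ gt x ∧ ρ ge1 (ρ gt x) = ρ gt x :=
      fun x hx hx1 => ⟨by rw [hmul, fget, ← hmul, ← hmul ge, hx1, hx],
        by rw [hmul, fge1t, ← hmul, hx]⟩
    set x2 := ρ gt v with hx2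
    obtain ⟨hx2e, hx2e1⟩ := hFt v hve hve1
    set x3 := ρ gt x2 with hx3
    obtain ⟨hx3e, hx3e1⟩ := hFt x2 hx2e hx2e1
    have hinj := (ρ gt).injective
    have hx31 : ρ gt x3 = v := by
      rw [hx3, hx2, hmul, hmul, (pow_three' gt).symm, gs_facts.2.2, hone]
    have hne12 : v ≠ x2 := Ne.symm hvt
    have hne23 : x2 ≠ x3 := fun e => hvt (hinj e).symm
    have hne13 : v ≠ x3 := fun e => hvt ((congrArg (ρ gt) e).trans hx31)
    have hv0' : v ≠ 0 := fun e => hvt (by rw [hx2, e, map_zero])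
    have hx20 : x2 ≠ 0 := fun e => hv0' (hinj ((show ρ gt v = x2 from rfl).trans (e.trans (map_zero (ρ gt)).symm)))
    have hx30 : x3 ≠ 0 := fun e => hx20 (hinj (e.trans (map_zero (ρ gt)).symm))
    have hpair : ∀ x y, ρ ge x = x → ρ ge1 x = x → x ≠ 0 → ρ ge y = y → ρ ge1 y = y → y ≠ 0 →
        x ≠ y → c x y = va := by
      intro x y hx hx1 hx0 hy hy1 hy0 hxy
      have h := hq x y
      rw [hFq _ hx hx1 hx0, hFq _ hy hy1 hy0, hFq (x + y) (by rw [map_add, hx, hy])
        (by rw [map_add, hx1, hy1]) (fun e => hxy (by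
          rw [← add_zero x, ← vadd_self y, ← add_assoc, e, zero_add])), vadd_self, zero_add] at h
      exact h.symm
    have hF3 : ∀ y, ρ ge y = y → ρ ge1 y = y → y ≠ 0 → y = v ∨ y = x2 ∨ y = v + x2 := by
      intro y hy hy1 hy0
      by_contra hcon; push Not at hcon
      obtain ⟨hy1', hy2', hy3'⟩ := hcon
      have h12 : v + x2 ≠ 0 := fun e => hne12 (by
        rw [← add_zero v, ← vadd_self x2, ← add_assoc, e, zero_add])
      have e := hpair y (v + x2) hy hy1 hy0 (by rw [map_add, hve, hx2e])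
        (by rw [map_add, hve1, hx2e1]) h12 hy3'
      rw [map_add, hpair y v hy hy1 hy0 hve hve1 hv0' hy1',
        hpair y x2 hy hy1 hy0 hx2e hx2e1 hx20 hy2', vadd_self] at e
      exact hva e.symm
    have hx3s : x3 = v + x2 := ((hF3 x3 hx3e hx3e1 hx30).resolve_left hne13.symm).resolve_left hne23.symm
    -- a fixed vector of `gt`
    obtain ⟨w, hw0, hwt⟩ := exists_fixed_gt ρ hsfix hvn
    have hwq : q w = va :=
      (fix_gtv _ (by rw [← hequiv, hwt])).resolve_left fun e => hw0 (hani w e)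
    have hwF : ¬ (ρ ge w = w ∧ ρ ge1 w = w) := fun ⟨h', h''⟩ => by
      rcases hF3 w h' h'' hw0 with e | e | e
      · rw [e] at hwt; exact hvt hwt
      · rw [e] at hwt; exact hne23 hwt.symm
      · rw [← hx3s] at e; rw [e, hx31] at hwt; exact hne13 hwt
    have hti : ρ gt⁻¹ w = w := by
      conv_lhs => rw [← hwt]
      rw [hmul, inv_mul_cancel, hone]
    have hwe : ρ gt (ρ ge w) = ρ ge1 w := by
      rw [← fc1, ← hmul, ← hmul, hti]
    have hwe1 : ρ gt (ρ ge1 w) = ρ (ge * ge1) w := by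
      rw [← fc2, ← hmul, ← hmul, hti]
    have hwe2 : ρ gt (ρ (ge * ge1) w) = ρ ge w := by
      conv_rhs => rw [← fc3, ← hmul, ← hmul, hti]
    have hwne : ρ ge w ≠ w := fun e => hwF ⟨e, by rw [← hwe, e, hwt]⟩
    have hwne1 : ρ ge1 w ≠ w := fun e => hwF ⟨by
      rw [← hwe2, ← hwe1, e, hwt, hwt], e⟩
    have hwne2 : ρ (ge * ge1) w ≠ w := fun e => hwne (by rw [← hwe2, e, hwt])
    have hw12 : ρ ge w ≠ ρ ge1 w := fun e => hwne2 (by rw [← hmul, ← e, hmul, fee, hone])
    have hw13 : ρ ge w ≠ ρ (ge * ge1) w := fun e => hwne1 (by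
      rw [← hmul] at e; exact ((ρ ge).injective e).symm)
    have hw23 : ρ ge1 w ≠ ρ (ge * ge1) w := fun e => hwne (by
      rw [fcomm, ← hmul] at e; exact ((ρ ge1).injective e).symm)
    set A : Finset V := {v, x2, x3} with hA
    set B : Finset V := {w, ρ ge w, ρ ge1 w, ρ (ge * ge1) w} with hB
    have hAfix : ∀ x ∈ A, ρ ge x = x ∧ ρ ge1 x = x := by
      intro x hx
      simp only [hA, Finset.mem_insert, Finset.mem_singleton] at hx
      rcases hx with rfl | rfl | rfl
      exacts [⟨hve, hve1⟩, ⟨hx2e, hx2e1⟩, ⟨hx3e, hx3e1⟩]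
    have hAB : Disjoint A B := by
      rw [Finset.disjoint_left]
      intro x hx hxB
      obtain ⟨h', h''⟩ := hAfix x hx
      simp only [hB, Finset.mem_insert, Finset.mem_singleton] at hxB
      rcases hxB with rfl | rfl | rfl | rfl
      · exact hwF ⟨h', h''⟩
      · rw [hmul, fee, hone] at h'; exact hwne h'.symm
      · rw [hmul, fe1e1, hone] at h''; exact hwne1 h''.symm
      · rw [hmul, ← mul_assoc, fee, one_mul] at h'; exact hw23 h'
    have hS7 : (A ∪ B).card = 7 := by
      rw [Finset.card_union_of_disjoint hAB, hA, hB,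
        Finset.card_insert_of_notMem (by simp only [Finset.mem_insert, Finset.mem_singleton, not_or]; exact ⟨hne12, hne13⟩),
        Finset.card_pair hne23,
        Finset.card_insert_of_notMem (by simp only [Finset.mem_insert, Finset.mem_singleton, not_or]; exact ⟨hwne.symm, hwne1.symm, hwne2.symm⟩),
        Finset.card_insert_of_notMem (by simp only [Finset.mem_insert, Finset.mem_singleton, not_or]; exact ⟨hw12, hw13⟩),
        Finset.card_pair hw23]
    have k1 : ρ ge (ρ ge w) = w := by rw [hmul, fee, hone]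
    have k2 : ρ ge (ρ ge1 w) = ρ (ge * ge1) w := hmul _ _ _
    have k3 : ρ ge (ρ (ge * ge1) w) = ρ ge1 w := by rw [hmul, ← mul_assoc, fee, one_mul]
    have k4 : ρ ge1 (ρ ge w) = ρ (ge * ge1) w := by rw [hmul, fcomm]
    have k5 : ρ ge1 (ρ ge1 w) = w := by rw [hmul, fe1e1, hone]
    have k6 : ρ ge1 (ρ (ge * ge1) w) = ρ ge w := by rw [hmul, fcomm, ← mul_assoc, fe1e1, one_mul]
    have k7 : ρ gt v = x2 := rfl
    have k8 : ρ gt x2 = x3 := rfl
    have hSinv : ∀ g ∈ [ge, ge1, gt], ∀ x ∈ A ∪ B, ρ g x ∈ A ∪ B := by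
      intro g hg x hx
      simp only [List.mem_cons, List.not_mem_nil, or_false] at hg
      simp only [hA, hB, Finset.mem_union, Finset.mem_insert, Finset.mem_singleton] at hx ⊢
      rcases hg with rfl | rfl | rfl
      · rcases hx with (e | e | e) | (e | e | e | e) <;> rw [e]
        · rw [hve]; simp
        · rw [hx2e]; simp [k7, k8]
        · rw [hx3e]; simp [k7, k8]
        · simp
        · rw [k1]; simp
        · rw [k2]; simp
        · rw [k3]; simp
      · rcases hx with (e | e | e) | (e | e | e | e) <;> rw [e]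
        · rw [hve1]; simp
        · rw [hx2e1]; simp [k7, k8]
        · rw [hx3e1]; simp [k7, k8]
        · simp
        · rw [k4]; simp
        · rw [k5]; simp
        · rw [k6]; simp
      · rcases hx with (e | e | e) | (e | e | e | e) <;> rw [e]
        · rw [k7]; simp
        · rw [k8]; simp
        · rw [hx31]; simp
        · rw [hwt]; simp
        · rw [hwe]; simp
        · rw [hwe1]; simp
        · rw [hwe2]; simp
    have hSsub : A ∪ B ⊆ fib va := by
      intro x hx
      simp only [hA, hB, Finset.mem_union, Finset.mem_insert, Finset.mem_singleton] at hx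
      rw [hfib]
      rcases hx with (rfl | rfl | rfl) | (rfl | rfl | rfl | rfl)
      exacts [hFq _ hve hve1 hv0', hFq _ hx2e hx2e1 hx20, hFq _ hx3e hx3e1 hx30, hwq,
        by rw [hequiv, hwq, eea], by rw [hequiv, hwq, ea], by rw [hequiv, hwq, ac_mul, ea, eea]]
    set R := fib va \ (A ∪ B) with hR
    obtain ⟨x, y, hxy, hRxy⟩ := Finset.card_eq_two.1 (show R.card = 2 by
      rw [hR, Finset.card_sdiff_of_subset hSsub, hS7, h9])
    have hRinv : ∀ g ∈ [ge, ge1, gt], ∀ z ∈ R, ρ g z ∈ R := by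
      intro g hg z hz
      rw [hR, Finset.mem_sdiff] at hz ⊢
      refine ⟨hfg g ?_ z hz.1, fun hmem => hz.2 ?_⟩
      · fin_cases hg
        exacts [eea, ea, ta]
      · have himg : (A ∪ B).image (ρ g) = A ∪ B :=
          Finset.eq_of_subset_of_card_le (Finset.image_subset_iff.2 (hSinv g hg))
            (by rw [Finset.card_image_of_injective _ (ρ g).injective])
        rw [← himg, Finset.mem_image] at hmem
        obtain ⟨z', hz', he'⟩ := hmem
        rwa [← (ρ g).injective he']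
    have hxR : x ∈ R := by rw [hRxy]; simp
    have hyR : y ∈ R := by rw [hRxy]; simp
    have hmem2 : ∀ z ∈ R, z = x ∨ z = y := fun z hz => by rw [hRxy] at hz; simpa using hz
    have htfix : ρ gt x = x := by
      rcases hmem2 _ (hRinv gt (by simp) x hxR) with e | e
      · exact e
      rcases hmem2 _ (hRinv gt (by simp) y hyR) with e' | e'
      · have : ρ gt (ρ gt (ρ gt x)) = x := by
          rw [hmul, hmul, (pow_three' gt).symm, gs_facts.2.2, hone]
        rw [e, e'] at this; exact this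
      · exact absurd (hinj (e.trans e'.symm)) hxy
    have htfy : ρ gt y = y := by
      rcases hmem2 _ (hRinv gt (by simp) y hyR) with e | e
      · exact absurd (hinj (e.trans htfix.symm)) hxy.symm
      · exact e
    have htxi : ρ gt⁻¹ x = x := by
      conv_lhs => rw [← htfix]
      rw [hmul, inv_mul_cancel, hone]
    have h1x : ρ ge1 x = ρ gt (ρ ge x) := by rw [← fc1, ← hmul, ← hmul, htxi]
    have h2x : ρ (ge * ge1) x = ρ gt (ρ ge1 x) := by rw [← fc2, ← hmul, ← hmul, htxi]
    rcases hmem2 _ (hRinv ge (by simp) x hxR) with e | e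
    · have e1 : ρ ge1 x = x := by rw [h1x, e, htfix]
      have hx0 : x ≠ 0 := fun ex => by
        have hmem := (hfib va x).1 (Finset.mem_sdiff.1 hxR).1
        rw [ex, hq0] at hmem; exact hva hmem.symm
      apply (Finset.mem_sdiff.1 hxR).2
      rw [← hx3s] at hF3
      rcases hF3 x e e1 hx0 with rfl | rfl | rfl <;> simp [hA]
    · have e1 : ρ ge1 x = y := by rw [h1x, e, htfy]
      have e2 : ρ (ge * ge1) x = y := by rw [h2x, e1, htfy]
      rw [← hmul, e1, ← e, hmul, fee, hone] at e2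
      exact hxy (e2.trans e)
  -- the equivariant section
  have hv0st : ∀ g, ac g va = va → ρ g v0 = v0 := by
    let S : Subgroup GL32 :=
      { carrier := {g | ρ g v0 = v0}
        mul_mem' := fun {g h} hg hh => by
          simp only [Set.mem_setOf_eq] at hg hh ⊢; rw [← hmul, hh, hg]
        one_mem' := hone v0
        inv_mem' := fun {g} hg => by
          simp only [Set.mem_setOf_eq] at hg ⊢
          conv_lhs => rw [← hg]
          rw [hmul, inv_mul_cancel, hone] }
    exact fun g hg => stab_gen S hv0e hv0e1 hv0t hv0r hg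
  let f : Nat3 → V := fun x => if hx : x = 0 then 0 else ρ (L32Radical.exists_ac_a hx).choose v0
  have hf : ∀ g, f (ac g va) = ρ g v0 := by
    intro g
    have hne : ac g va ≠ 0 := fun e => hva (ac_injective g (e.trans (ac_zero g).symm))
    simp only [f, dif_neg hne]
    have hc' := (L32Radical.exists_ac_a hne).choose_spec
    have := hv0st (g⁻¹ * (L32Radical.exists_ac_a hne).choose) (by rw [ac_mul, hc', ac_inv_ac])
    rw [← hmul] at this
    conv_rhs => rw [← this]
    rw [hmul g, mul_inv_cancel, hone]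
  have hf0 : f 0 = 0 := by simp [f]
  have hfe : ∀ g x, f (ac g x) = ρ g (f x) := by
    intro g x
    by_cases hx : x = 0
    · subst hx; rw [ac_zero, hf0, map_zero]
    obtain ⟨h, rfl⟩ := L32Radical.exists_ac_a hx
    rw [← ac_mul, hf, hf, hmul]
  have hfq : ∀ x, q (f x) = x := by
    intro x
    by_cases hx : x = 0
    · subst hx; rw [hf0, hq0]
    obtain ⟨h, rfl⟩ := L32Radical.exists_ac_a hx
    rw [hf, hequiv, hv0q]
  have hfab : f (va + vb) = f va + f vb := by
    set s := f va + f vb + f (va + vb) with hs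
    have h1 : ρ gsw s = s := by
      rw [hs, map_add, map_add, ← hfe, ← hfe, ← hfe, swa, swb, swab, add_comm (f vb)]
    have h2 : ρ ge1 s = s := by
      rw [hs, map_add, map_add, ← hfe, ← hfe, ← hfe, ea, eb, eab]; abel
    have h3' : ρ ge s = s := by
      rw [hs, map_add, map_add, ← hfe, ← hfe, ← hfe, ac_add, eea, eevb]
    have h3 : s = 0 := hani s (fix_line _ (by rw [← hequiv, h1]) (by rw [← hequiv, h2])
      (by rw [← hequiv, h3']))
    calc f (va + vb) = f va + f vb + (f va + f vb + f (va + vb)) := by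
          rw [← add_assoc, vadd_self, zero_add]
      _ = f va + f vb := by rw [← hs, h3, add_zero]
  have hfadd : ∀ x y, f (x + y) = f x + f y := by
    intro x y
    by_cases hx : x = 0
    · subst hx; rw [zero_add, hf0, zero_add]
    by_cases hy : y = 0
    · subst hy; rw [add_zero, hf0, add_zero]
    by_cases hxy : x = y
    · subst hxy; rw [vadd_self, vadd_self, hf0]
    obtain ⟨g, rfl⟩ := L32Radical.exists_ac_a hx
    have hy' : y = ac g (ac g⁻¹ y) := by rw [← ac_mul, mul_inv_cancel, ac_one]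
    obtain ⟨b, -, hb1, hb2⟩ := pair_list (ac g⁻¹ y)
      (fun e => hy (by rw [hy', e, ac_zero])) (fun e => hxy (by rw [hy', e]))
    have h1 : ac g va = ac (g * b) va := by rw [ac_mul, hb1]
    have h2 : y = ac (g * b) vb := by rw [ac_mul, hb2, ← hy']
    rw [h1, h2, ← ac_add, hfe, hfe, hfe, hfab, map_add]
  let fL : Nat3 →ₗ[ZMod 2] V := (AddMonoidHom.mk' f hfadd).toZModLinearMap 2
  have hfL : ∀ x, fL x = f x := fun x => rfl
  have hfinj : Function.Injective fL := fun x y e => by
    rw [← hfq x, ← hfq y]; exact congrArg q e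
  have hfc : ∀ x y, c (f x) (f y) = 0 := by
    intro x y
    have h := hq (f x) (f y)
    rw [← hfadd, hfq, hfq, hfq] at h
    exact (left_eq_add.1 h)
  rcases hdim with hd | ⟨hd, hnd⟩
  · intro v w
    have hsurj : Function.Surjective fL :=
      (LinearMap.injective_iff_surjective_of_finrank_eq_finrank (hW3.trans hd.symm)).1 hfinj
    obtain ⟨x, rfl⟩ := hsurj v
    obtain ⟨y, rfl⟩ := hsurj w
    exact hfc x y
  exfalso
  have hker : ∀ x, x ≠ 0 → ∀ v, c (f x) v = 0 → ∃ y, f y = v := by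
    intro x hx v hv
    have hrange : LinearMap.range (c (f x)) = ⊤ := by
      by_contra hne
      obtain ⟨z, hz⟩ : ∃ z, z ∉ LinearMap.range (c (f x)) := by
        by_contra hc; push Not at hc; exact hne (eq_top_iff.2 fun z _ => hc z)
      obtain ⟨χ, h1, h2⟩ := exists_dual_one (LinearMap.range (c (f x))) hz
      have := hnd χ (fun e => by rw [e] at h2; exact zero_ne_one h2) (f x) fun w => h1 _ ⟨w, rfl⟩
      exact hx (by rw [← hfq x, this, hq0])
    have h1 := LinearMap.finrank_range_add_finrank_ker (c (f x))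
    rw [hrange, finrank_top, hW3, hd] at h1
    have h2 : LinearMap.range fL = LinearMap.ker (c (f x)) := by
      refine Submodule.eq_of_le_of_finrank_le ?_ ?_
      · rintro _ ⟨y, rfl⟩; exact hfc x y
      · rw [LinearMap.finrank_range_of_inj hfinj, hW3]; omega
    exact (h2.symm ▸ (show v ∈ LinearMap.ker (c (f x)) from hv) : v ∈ LinearMap.range fL)
  let Θ : V →ₗ[ZMod 2] (Nat3 → Nat3) := LinearMap.pi fun x => c.flip (f x)
  have hΘ : ∀ v x, Θ v x = c v (f x) := fun v x => rfl
  have hΘker : ∀ v x, x ≠ 0 → Θ v x = 0 → ∃ y, f y = v := fun v x hx h =>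
    hker x hx v (by rw [hsymm]; exact h)
  have hΘW : ∀ y, Θ (f y) = 0 := fun y => funext fun x => hfc y x
  let X : Finset (Nat3 → Nat3) := (Finset.univ.image Θ).erase 0
  have hXcard : X.card = 7 := by
    rw [Finset.card_erase_of_mem (Finset.mem_image.2 ⟨0, Finset.mem_univ _, map_zero Θ⟩)]
    have h1 := LinearMap.finrank_range_add_finrank_ker Θ
    have h2 : LinearMap.ker Θ = LinearMap.range fL := by
      apply le_antisymm
      · intro v hv
        exact hΘker v va hva (congrFun (hv : Θ v = 0) va)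
      · rintro _ ⟨y, rfl⟩; exact hΘW y
    rw [h2, LinearMap.finrank_range_of_inj hfinj, hd, hW3] at h1
    have h3 := card_pow (V := LinearMap.range Θ)
    rw [show finrank (ZMod 2) (LinearMap.range Θ) = 3 by omega] at h3
    rw [show (Finset.univ.image Θ).card = Nat.card (LinearMap.range Θ) by
      rw [← Nat.card_eq_finsetCard]
      exact Nat.card_congr (Equiv.subtypeEquivRight fun h => by simp), h3]
    rfl
  let A : GL32 → (Nat3 → Nat3) → (Nat3 → Nat3) := fun g h x => ac g (h (ac g⁻¹ x))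
  have hAΘ : ∀ g v, Θ (ρ g v) = A g (Θ v) := by
    intro g v; funext x
    simp only [A, hΘ]
    rw [← hce, ← hfe, ← ac_mul, mul_inv_cancel, ac_one]
  have hAmul : ∀ g g' h, A g (A g' h) = A (g * g') h := fun g g' h => by
    funext x; simp only [A, _root_.mul_inv_rev, ac_mul]
  have hA1 : ∀ h, A 1 h = h := fun h => by funext x; simp only [A, inv_one, ac_one]
  have hAX : ∀ g, ∀ h ∈ X, A g h ∈ X := by
    intro g h hh
    obtain ⟨h0, hh⟩ := Finset.mem_erase.1 hh
    obtain ⟨v, -, rfl⟩ := Finset.mem_image.1 hh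
    refine Finset.mem_erase.2 ⟨fun e => h0 ?_, Finset.mem_image.2 ⟨ρ g v, Finset.mem_univ _, hAΘ g v⟩⟩
    have : A g⁻¹ (A g (Θ v)) = A g⁻¹ 0 := congrArg _ e
    rw [hAmul, inv_mul_cancel, hA1] at this
    rw [this]; funext x; simp [A, ac_zero]
  have h1 := odd_fix X (A ge) (hAX ge) (fun h _ => by rw [hAmul, fee, hA1]) (hXcard ▸ by decide)
  set X1 := X.filter fun h => A ge h = h with hX1
  have h2 := odd_fix X1 (A gu) (fun h hh => by
      obtain ⟨hhX, hh⟩ := Finset.mem_filter.1 hh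
      refine Finset.mem_filter.2 ⟨hAX gu h hhX, ?_⟩
      conv_rhs => rw [← hh]
      rw [hAmul, hAmul, fe, mul_assoc])
    (fun h hh => by rw [hAmul, ← fe]; exact (Finset.mem_filter.1 hh).2) h1
  set X2 := X1.filter fun h => A gu h = h with hX2
  have h3 := odd_fix X2 (A gr) (fun h hh => by
      obtain ⟨hh1, hh⟩ := Finset.mem_filter.1 hh
      obtain ⟨hhX, -⟩ := Finset.mem_filter.1 hh1
      have hhi : A gu⁻¹ h = h := by
        conv_lhs => rw [← hh]
        rw [hAmul, inv_mul_cancel, hA1]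
      have hgr : A gu (A gr h) = A gr h := by rw [hAmul, fur, ← hAmul, hhi]
      refine Finset.mem_filter.2 ⟨Finset.mem_filter.2 ⟨hAX gr h hhX, ?_⟩, hgr⟩
      rw [fe, ← hAmul, hgr, hgr])
    (fun h _ => by rw [hAmul, frr, hA1]) h2
  obtain ⟨h, hh⟩ := Finset.card_pos.1 h3.pos
  obtain ⟨hh2, hhr⟩ := Finset.mem_filter.1 hh
  obtain ⟨hh1, hhu⟩ := Finset.mem_filter.1 hh2
  obtain ⟨hne, hhX⟩ := Finset.mem_erase.1 (Finset.mem_filter.1 hh1).1
  obtain ⟨v, -, rfl⟩ := Finset.mem_image.1 hhX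
  have heq : ∀ g, A g (Θ v) = Θ v → ∀ x, Θ v (ac g x) = ac g (Θ v x) := by
    intro g hg x
    conv_lhs => rw [← hg]
    simp only [A, ac_inv_ac]
  have hinjΘ : ∀ x, Θ v x = 0 → x = 0 := fun x hx => by
    by_contra hx0
    obtain ⟨y, rfl⟩ := hΘker v x hx0 hx
    exact hne (hΘW y)
  have hlin : ∀ x y, Θ v (x + y) = Θ v x + Θ v y := fun x y => by
    simp only [hΘ, hfadd, map_add]
  have hA' : Θ v va = va := by
    refine (L32Radical.fix_gu _ ?_).resolve_left fun e => hva (hinjΘ _ e)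
    rw [← heq gu hhu, ua]
  have hB := flag_maps (Θ v vb) (Θ v vc) (by rw [← heq gu hhu, ub, hlin, hA'])
    (by rw [← heq gu hhu, uc, hlin]) (by rw [← heq gr hhr, rc, hlin])
    (fun e => hvb (hinjΘ _ e))
  have hexp : ∀ x, Θ v x = x 0 • Θ v va + x 1 • Θ v vb + x 2 • Θ v vc := fun x => by
    conv_lhs => rw [eq_expand x]
    simp only [hΘ, ← hfL, map_add, map_smul]
  rcases hB with ⟨hBb, hCc | hCc⟩ | ⟨-, hF⟩
  · -- the identity
    have hid : ∀ x, Θ v x = x := fun x => by rw [hexp, hA', hBb, hCc, ← eq_expand]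
    have hqc : ∀ y, q (v + f y) = q v := fun y => by
      rw [hq, hfq, ← hΘ, hid, add_assoc, vadd_self, add_zero]
    have hfix : ∀ g, ac g (q v) = q v := by
      intro g
      have h0 : Θ (ρ g v + v) = 0 := by
        rw [map_add, hAΘ]
        funext x
        simp only [A, Pi.add_apply, hid, ← ac_mul, mul_inv_cancel, ac_one, vadd_self, Pi.zero_apply]
      obtain ⟨y, hy⟩ := hΘker _ va hva (congrFun h0 va)
      rw [← hequiv, ← hqc y, hy, add_comm (ρ g v), ← add_assoc, vadd_self, zero_add]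
    have := hani v (fix_gs _ (hfix gs))
    exact hne (by rw [this, map_zero])
  · -- the transvection
    have hid : ∀ x, Θ v x = ac ge x := fun x => by
      have : ∀ x : Nat3, x 0 • va + x 1 • vb + x 2 • (va + vc) = ac ge x := by decide
      rw [hexp, hA', hBb, hCc, this]
    have hid1 : ∀ x, Θ (ρ gt v) x = ac ge1 x := fun x => by
      rw [hAΘ]; simp only [A, hid, ← ac_mul, ← mul_assoc, fc1]
    obtain ⟨y, hy⟩ := hΘker (v + ρ gt v) (vb + vc) hbc (by
      rw [map_add, Pi.add_apply, hid, hid1, hsum0])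
    have h0 := congrFun (hΘW y) vc
    rw [hy, map_add, Pi.add_apply, hid, hid1, Pi.zero_apply] at h0
    exact hne01 (by rw [← add_zero (ac ge vc), ← vadd_self (ac ge1 vc), ← add_assoc, h0, zero_add])
  · exact hF

end Cfsg.Agent.Pyramidal
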