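import Cfsg.Agent.S0205
import Cfsg.Agent.S0217
import Cfsg.Agent.Lib.Involution.StrongEmb

/-!
# Elementary abelian Sylow 2-subgroups with free normaliser action

If no element of the normaliser of an elementary abelian Sylow 2-subgroup of order at least
8 fixes a non-identity element of it without centralising it, the group is solvable or has
a strongly embedded subgroup, and then the normaliser fuses all involutions.
-/

set_option autoImplicit false

namespace Cfsg.Agent.Pyramidal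

open Cfsg
open scoped Pointwise

theorem odd_orderOf_of_odd_card {G : Type*} [Group G] {H : Subgroup G} [Finite H]
    (hH : Odd (Nat.card H)) {x : G} (hx : x ∈ H) : Odd (orderOf x) :=
  hH.of_dvd_nat (Subgroup.orderOf_dvd_natCard H hx)

theorem mem_of_odd_orderOf {G : Type*} [Group G] {H : Subgroup G} [H.Normal] [Finite G]
    {k : ℕ} (hk : H.index = 2 ^ k) {x : G} (hx : Odd (orderOf x)) : x ∈ H := by
  have h1 : orderOf (QuotientGroup.mk' H x) ∣ orderOf x := orderOf_map_dvd _ _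
  have h2 : orderOf (QuotientGroup.mk' H x) ∣ 2 ^ k := by
    rw [← hk, Subgroup.index_eq_card]; exact orderOf_dvd_natCard _
  have h3 : orderOf (QuotientGroup.mk' H x) = 1 :=
    Nat.eq_one_of_dvd_coprimes (Nat.Coprime.pow_right k (Nat.coprime_two_right.2 hx)) h1 h2
  exact (QuotientGroup.eq_one_iff x).1 (orderOf_eq_one_iff.1 h3)

universe u

variable {Q : Type u} [Group Q] [Finite Q] (P : Sylow 2 Q)

/-- In the centraliser of `v`, the elements of odd order form a complement to `P`. -/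
theorem exists_theta (hab : ∀ a ∈ (P : Subgroup Q), ∀ b ∈ (P : Subgroup Q), a * b = b * a)
    (hloc : ∀ v ∈ (P : Subgroup Q), v ≠ 1 → ∀ g ∈ Subgroup.normalizer ((P : Subgroup Q) : Set Q),
      g * v = v * g → g ∈ Subgroup.centralizer ((P : Subgroup Q) : Set Q))
    {v : Q} (hv : v ∈ (P : Subgroup Q)) (hv1 : v ≠ 1) :
    ∃ K : Subgroup Q, (∀ x, x ∈ K ↔ x * v = v * x ∧ Odd (orderOf x)) ∧ Odd (Nat.card K) ∧
      Subgroup.centralizer ({v} : Set Q) ≤ K ⊔ (P : Subgroup Q) := by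
  haveI : Fact (Nat.Prime 2) := ⟨Nat.prime_two⟩
  set D := Subgroup.centralizer ({v} : Set Q) with hD
  have hPD : (P : Subgroup Q) ≤ D := fun a ha => Subgroup.mem_centralizer_singleton_iff.2 (hab a ha v hv)
  let PD : Sylow 2 D := P.subtype hPD
  have hN : Subgroup.normalizer (PD : Subgroup D) ≤ Subgroup.centralizer ((PD : Subgroup D) : Set D) := by
    intro g hg
    have hg' : (g : Q) ∈ Subgroup.normalizer ((P : Subgroup Q) : Set Q) := by
      rw [Subgroup.mem_normalizer_iff]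
      intro h
      constructor
      · intro hh
        exact (Subgroup.mem_normalizer_iff.1 hg ⟨h, hPD hh⟩).1 hh
      · intro hh
        have h0 : h ∈ D := by
          have := D.mul_mem (D.mul_mem (D.inv_mem g.2) (hPD hh)) g.2
          simpa [mul_assoc] using this
        exact (Subgroup.mem_normalizer_iff.1 hg ⟨h, h0⟩).2 hh
    have hc := hloc v hv hv1 g hg' (Subgroup.mem_centralizer_singleton_iff.1 g.2)
    rw [Subgroup.mem_centralizer_iff] at hc ⊢
    intro h hh
    exact Subtype.ext (hc h hh)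
  set K₀ := (MonoidHom.transferSylow PD hN).ker with hK₀
  have hcomp := MonoidHom.ker_transferSylow_isComplement' PD hN
  have hodd : Odd (Nat.card K₀) :=
    Nat.not_even_iff_odd.1 fun h => MonoidHom.not_dvd_card_ker_transferSylow PD hN h.two_dvd
  refine ⟨K₀.map D.subtype, fun x => ⟨?_, ?_⟩, ?_, ?_⟩
  · rintro ⟨y, hy, rfl⟩
    refine ⟨Subgroup.mem_centralizer_singleton_iff.1 y.2, ?_⟩
    rw [Subgroup.coe_subtype, Subgroup.orderOf_coe]
    exact odd_orderOf_of_odd_card hodd hy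
  · rintro ⟨hxv, hx⟩
    refine ⟨⟨x, Subgroup.mem_centralizer_singleton_iff.2 hxv⟩, ?_, rfl⟩
    obtain ⟨k, hk⟩ := PD.2.exists_card_eq
    exact mem_of_odd_orderOf (k := k) (by rw [hK₀, hcomp.symm.index_eq_card]; exact hk)
      (by rw [← Subgroup.orderOf_coe]; exact hx)
  · rw [Subgroup.card_map_of_injective D.subtype_injective]; exact hodd
  · intro x hx
    have h1 : (⟨x, hx⟩ : D) ∈ K₀ ⊔ (PD : Subgroup D) := by rw [hcomp.sup_eq_top]; trivial
    have h2 := Subgroup.mem_map_of_mem D.subtype h1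
    rw [Subgroup.map_sup] at h2
    have h3 : (PD : Subgroup D).map D.subtype ≤ (P : Subgroup Q) := by
      rintro _ ⟨y, hy, rfl⟩
      exact hy
    exact sup_le le_sup_left (h3.trans le_sup_right) h2

/-- The group is solvable or its Sylow normaliser fuses all involutions. -/
theorem solvable_or_fused
    (hab : ∀ a ∈ (P : Subgroup Q), ∀ b ∈ (P : Subgroup Q), a * b = b * a)
    (hexp : ∀ a ∈ (P : Subgroup Q), a ^ 2 = 1) (hrank : 2 ^ 3 ≤ Nat.card (P : Subgroup Q))
    (hloc : ∀ v ∈ (P : Subgroup Q), v ≠ 1 → ∀ g ∈ Subgroup.normalizer ((P : Subgroup Q) : Set Q),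
      g * v = v * g → g ∈ Subgroup.centralizer ((P : Subgroup Q) : Set Q)) :
    Group.IsSolvable Q ∨ ∀ v ∈ (P : Subgroup Q), v ≠ 1 → ∀ w ∈ (P : Subgroup Q), w ≠ 1 →
      ∃ g ∈ Subgroup.normalizer ((P : Subgroup Q) : Set Q), g * v * g⁻¹ = w := by
  classical
  haveI : Fact (Nat.Prime 2) := ⟨Nat.prime_two⟩
  choose! θ hθmem hθodd hθsup using fun v (h : v ∈ (P : Subgroup Q) ∧ v ≠ 1) =>
    exists_theta P hab hloc h.1 h.2
  set W : Subgroup Q := ⨆ a : {a : Q // a ∈ (P : Subgroup Q) ∧ a ≠ 1}, θ a with hW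
  have hWodd : Odd (Nat.card W) := by
    refine Nat.not_even_iff_odd.1 fun h => (Cfsg.Agent.S0217.result (P : Subgroup Q) hab hexp hrank θ
      ?_ ?_ ?_ ?_ ?_).1 h.two_dvd
    · intro a ha ha1 x hx
      exact Subgroup.mem_centralizer_singleton_iff.2 ((hθmem a ⟨ha, ha1⟩ x).1 hx).1
    · intro a ha ha1 h'
      exact (Nat.not_even_iff_odd.2 (hθodd a ⟨ha, ha1⟩)) (even_iff_two_dvd.2 h')
    · intro a ha ha1 b hb x hx
      rw [hθmem a ⟨ha, ha1⟩] at hx ⊢
      have hab' : a * b = b * a := hab a ha b hb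
      refine ⟨?_, ?_⟩
      · have h1 : Commute (b * x * b⁻¹) a :=
          ((Commute.mul_left (show Commute b a from hab'.symm) hx.1).mul_left
            (show Commute b a from hab'.symm).inv_left)
        exact h1
      · rw [show b * x * b⁻¹ = MulAut.conj b x from rfl, MulEquiv.orderOf_eq]; exact hx.2
    · intro a ha ha1
      exact Cfsg.Agent.S0205.result (hθodd a ⟨ha, ha1⟩)
    · rintro a ha ha1 b hb hb1 x ⟨hx, hxb⟩
      rw [hθmem b ⟨hb, hb1⟩]
      exact ⟨Subgroup.mem_centralizer_singleton_iff.1 hxb, ((hθmem a ⟨ha, ha1⟩ x).1 hx).2⟩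
  have hWN : ∀ g ∈ Subgroup.normalizer ((P : Subgroup Q) : Set Q),
      W.map (MulAut.conj g).toMonoidHom ≤ W := by
    intro g hg
    rw [hW, Subgroup.map_iSup]
    refine iSup_le fun ⟨a, ha, ha1⟩ => ?_
    have ha' : g * a * g⁻¹ ∈ (P : Subgroup Q) := (Subgroup.mem_normalizer_iff.1 hg a).1 ha
    have ha1' : g * a * g⁻¹ ≠ 1 := fun e => ha1 (conj_eq_one_iff.1 e)
    refine le_trans ?_ (le_iSup (fun b : {b : Q // b ∈ (P : Subgroup Q) ∧ b ≠ 1} => θ b)
      ⟨_, ha', ha1'⟩)
    rintro _ ⟨x, hx, rfl⟩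
    have h := (hθmem a ⟨ha, ha1⟩ x).1 hx
    refine (hθmem _ ⟨ha', ha1'⟩ _).2 ⟨?_, ?_⟩
    · simp only [MulEquiv.toMonoidHom_eq_coe, MonoidHom.coe_coe, MulAut.conj_apply]
      calc g * x * g⁻¹ * (g * a * g⁻¹) = g * (x * a) * g⁻¹ := by group
        _ = g * (a * x) * g⁻¹ := by rw [h.1]
        _ = g * a * g⁻¹ * (g * x * g⁻¹) := by group
    · rw [MulEquiv.toMonoidHom_eq_coe, MonoidHom.coe_coe, MulEquiv.orderOf_eq]; exact h.2
  have hWP : (P : Subgroup Q) ≤ Subgroup.normalizer (W : Set Q) := by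
    intro g hg
    rw [Subgroup.mem_normalizer_iff]
    intro h
    refine ⟨fun hh => hWN g (Subgroup.le_normalizer hg) ⟨h, hh, rfl⟩, fun hh => ?_⟩
    have := hWN g⁻¹ (inv_mem (Subgroup.le_normalizer hg)) ⟨_, hh, rfl⟩
    simpa [mul_assoc] using this
  set X := W ⊔ (P : Subgroup Q) with hX
  set M := Subgroup.normalizer (X : Set Q) with hM
  have hCM : ∀ v ∈ (P : Subgroup Q), v ≠ 1 → ∀ x, x * v = v * x → x ∈ M := by
    intro v hv hv1 x hx
    refine Subgroup.le_normalizer ?_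
    exact sup_le_sup_right (le_iSup (fun b : {b : Q // b ∈ (P : Subgroup Q) ∧ b ≠ 1} => θ b)
      ⟨v, hv, hv1⟩) _ (hθsup v ⟨hv, hv1⟩ (Subgroup.mem_centralizer_singleton_iff.2 hx))
  have hNM : ∀ g ∈ Subgroup.normalizer ((P : Subgroup Q) : Set Q), g ∈ M := by
    intro g hg
    have hmap : ∀ k ∈ Subgroup.normalizer ((P : Subgroup Q) : Set Q),
        X.map (MulAut.conj k).toMonoidHom ≤ X := by
      intro k hk
      rw [hX, Subgroup.map_sup]
      refine sup_le_sup (hWN k hk) ?_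
      rintro _ ⟨y, hy, rfl⟩
      exact (Subgroup.mem_normalizer_iff.1 hk y).1 hy
    rw [hM, Subgroup.mem_normalizer_iff]
    intro h
    refine ⟨fun hh => hmap g hg ⟨h, hh, rfl⟩, fun hh => ?_⟩
    have := hmap g⁻¹ (inv_mem hg) ⟨_, hh, rfl⟩
    simpa [mul_assoc] using this
  have hPM : (P : Subgroup Q) ≤ M := fun g hg => hNM g (Subgroup.le_normalizer hg)
  by_cases hMtop : M = ⊤
  · left
    haveI hXn : X.Normal := Subgroup.normalizer_eq_top_iff.1 hMtop
    haveI hXs : Group.IsSolvable X := by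
      let WX : Subgroup X := W.subgroupOf X
      haveI : WX.Normal := Subgroup.normal_subgroupOf_iff_le_normalizer (le_sup_left : W ≤ X) |>.2
        (sup_le Subgroup.le_normalizer hWP)
      haveI : Group.IsSolvable WX := Cfsg.Agent.S0205.result (by
        rw [Nat.card_congr (Subgroup.subgroupOfEquivOfLe (le_sup_left : W ≤ X)).toEquiv]; exact hWodd)
      let f : (P : Subgroup Q) →* X ⧸ WX :=
        (QuotientGroup.mk' WX).comp (Subgroup.inclusion (le_sup_right : (P : Subgroup Q) ≤ X))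
      have hf : Function.Surjective f := by
        intro y
        obtain ⟨⟨x, hx⟩, rfl⟩ := QuotientGroup.mk'_surjective WX y
        have hx' : x ∈ (W : Set Q) * ((P : Subgroup Q) : Set Q) := by
          rw [← Subgroup.coe_mul_of_right_le_normalizer_left W (P : Subgroup Q) hWP]; exact hx
        obtain ⟨w, hw, a, ha, rfl⟩ := hx'
        refine ⟨⟨a, ha⟩, QuotientGroup.eq.2 ?_⟩
        rw [Subgroup.mem_subgroupOf]
        change a⁻¹ * (w * a) ∈ W
        have := (Subgroup.mem_normalizer_iff.1 (hWP (inv_mem ha)) w).1 hw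
        simpa [mul_assoc] using this
      haveI : Group.IsSolvable (X ⧸ WX) := Group.isSolvable_of_comm fun y z => by
        obtain ⟨a, rfl⟩ := hf y; obtain ⟨b, rfl⟩ := hf z
        rw [← map_mul, ← map_mul]
        exact congrArg f (Subtype.ext (hab a a.2 b b.2))
      exact solvable_of_ker_le_range WX.subtype (QuotientGroup.mk' WX) (by simp)
    haveI : Group.IsSolvable (Q ⧸ X) := Cfsg.Agent.S0205.result (by
      rw [← Subgroup.index_eq_card]
      exact (Nat.not_even_iff_odd.1 fun h => P.not_dvd_index h.two_dvd).of_dvd_nat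
        (Subgroup.index_dvd_of_le (le_sup_right : (P : Subgroup Q) ≤ X)))
    exact solvable_of_ker_le_range X.subtype (QuotientGroup.mk' X) (by simp)
  right
  -- `M` is strongly embedded
  let PM : Sylow 2 M := P.subtype hPM
  have hinvM : ∀ i ∈ M, orderOf i = 2 → ∃ m ∈ M, m * i * m⁻¹ ∈ (P : Subgroup Q) := by
    intro i hi hi2
    have hp : IsPGroup 2 (Subgroup.zpowers (⟨i, hi⟩ : M)) := IsPGroup.of_card (n := 1) (by
      rw [Nat.card_zpowers, ← Subgroup.orderOf_coe, hi2, pow_one])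
    obtain ⟨S, hS⟩ := hp.exists_le_sylow
    obtain ⟨m, hm⟩ := MulAction.exists_smul_eq M S PM
    refine ⟨m, m.2, ?_⟩
    have h1 : m * (⟨i, hi⟩ : M) * m⁻¹ ∈ (PM : Subgroup M) := by
      rw [← hm, Sylow.coe_subgroup_smul]
      exact ⟨⟨i, hi⟩, hS (Subgroup.mem_zpowers _), rfl⟩
    exact h1
  have hne1 : ∀ {i : Q}, orderOf i = 2 → ∀ m, m * i * m⁻¹ ≠ 1 := by
    intro i hi2 m e
    rw [conj_eq_one_iff.1 e, orderOf_one] at hi2
    omega
  have hCi : ∀ i ∈ M, orderOf i = 2 → ∀ x, x * i = i * x → x ∈ M := by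
    intro i hi hi2 x hx
    obtain ⟨m, hm, hmi⟩ := hinvM i hi hi2
    have h1 : m * x * m⁻¹ * (m * i * m⁻¹) = m * i * m⁻¹ * (m * x * m⁻¹) := by
      calc m * x * m⁻¹ * (m * i * m⁻¹) = m * (x * i) * m⁻¹ := by group
        _ = m * (i * x) * m⁻¹ := by rw [hx]
        _ = m * i * m⁻¹ * (m * x * m⁻¹) := by group
    have h2 := hCM _ hmi (hne1 hi2 m) _ h1
    have h3 := M.mul_mem (M.mul_mem (M.inv_mem hm) h2) hm
    simpa [mul_assoc] using h3
  have hse : IsStronglyEmbedded M := by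
    refine ⟨hMtop, ?_, fun g hg => Nat.not_even_iff_odd.1 fun heven => hg ?_⟩
    · rw [even_iff_two_dvd]
      exact (dvd_trans (by norm_num : (2 : ℕ) ∣ 2 ^ 3) (by
        obtain ⟨k, hk⟩ := P.2.exists_card_eq
        rw [hk] at hrank ⊢
        exact pow_dvd_pow _ ((Nat.pow_le_pow_iff_right (by norm_num)).1 hrank))).trans
        (Subgroup.card_dvd_of_le hPM)
    obtain ⟨⟨i, hiM, hig⟩, hi2'⟩ := exists_prime_orderOf_dvd_card' 2 heven.two_dvd
    have hi2 : orderOf i = 2 := (Subgroup.orderOf_mk _ _).symm.trans hi2'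
    obtain ⟨j, hj, hji⟩ := hig
    simp only [MulEquiv.toMonoidHom_eq_coe, MonoidHom.coe_coe, MulAut.conj_apply] at hji
    have hj2 : orderOf j = 2 := by
      rw [← hi2, ← hji, show g * j * g⁻¹ = MulAut.conj g j from rfl, MulEquiv.orderOf_eq]
    obtain ⟨m, hm, hmi⟩ := hinvM i hiM hi2
    -- `g⁻¹ m⁻¹` conjugates `P` into `M`
    have hin : ∀ a ∈ (P : Subgroup Q), g⁻¹ * (m⁻¹ * a * m) * g ∈ M := by
      intro a ha
      refine hCi j hj hj2 _ ?_
      have h1 : (m⁻¹ * a * m) * i = i * (m⁻¹ * a * m) := by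
        calc (m⁻¹ * a * m) * i = m⁻¹ * (a * (m * i * m⁻¹)) * m := by group
          _ = m⁻¹ * ((m * i * m⁻¹) * a) * m := by rw [hab a ha _ hmi]
          _ = i * (m⁻¹ * a * m) := by group
      rw [← hji] at h1
      calc g⁻¹ * (m⁻¹ * a * m) * g * j = g⁻¹ * ((m⁻¹ * a * m) * (g * j * g⁻¹)) * g := by group
        _ = g⁻¹ * ((g * j * g⁻¹) * (m⁻¹ * a * m)) * g := by rw [h1]
        _ = j * (g⁻¹ * (m⁻¹ * a * m) * g) := by group
    -- the Sylow subgroup obtained lies in `M`
    set y := g⁻¹ * m⁻¹ with hy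
    let f : (P : Subgroup Q) →* M :=
      { toFun := fun a => ⟨y * a * y⁻¹, by
          have := hin a a.2
          simpa [hy, mul_assoc] using this⟩
        map_one' := Subtype.ext (by simp)
        map_mul' := fun a b => Subtype.ext (show y * ((a : Q) * b) * y⁻¹ = _ by
          simp [mul_assoc]) }
    have hfp : IsPGroup 2 f.range := (P.2).of_surjective f.rangeRestrict f.rangeRestrict_surjective
    obtain ⟨S, hS⟩ := hfp.exists_le_sylow
    obtain ⟨k, hk⟩ := MulAction.exists_smul_eq M S PM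
    have hz : (k : Q) * y ∈ Subgroup.normalizer ((P : Subgroup Q) : Set Q) := by
      have hle : ∀ a ∈ (P : Subgroup Q), (k : Q) * y * a * ((k : Q) * y)⁻¹ ∈ (P : Subgroup Q) := by
        intro a ha
        have h1 : k * f ⟨a, ha⟩ * k⁻¹ ∈ (PM : Subgroup M) := by
          rw [← hk, Sylow.coe_subgroup_smul]
          exact ⟨f ⟨a, ha⟩, hS ⟨⟨a, ha⟩, rfl⟩, rfl⟩
        have h2 : ((k * f ⟨a, ha⟩ * k⁻¹ : M) : Q) ∈ (P : Subgroup Q) := h1
        simpa [f, mul_assoc] using h2
      have heq : (P : Subgroup Q).map (MulAut.conj ((k : Q) * y)).toMonoidHom = (P : Subgroup Q) :=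
        Subgroup.eq_of_le_of_card_ge (by rintro _ ⟨a, ha, rfl⟩; exact hle a ha)
          (le_of_eq (Subgroup.card_map_of_injective (MulEquiv.injective _)).symm)
      rw [Subgroup.mem_normalizer_iff]
      intro h
      refine ⟨hle h, fun hh => ?_⟩
      rw [← heq] at hh
      obtain ⟨a, ha, hae⟩ := hh
      rwa [← (MulAut.conj ((k : Q) * y)).injective hae]
    have h3 : y ∈ M := by
      have := M.mul_mem (M.inv_mem k.2) (hNM _ hz)
      simpa [mul_assoc] using this
    have h4 := M.inv_mem (M.mul_mem h3 hm)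
    simpa [hy] using h4
  intro v hv hv1 w hw hw1
  have hord : ∀ a ∈ (P : Subgroup Q), a ≠ 1 → orderOf a = 2 := fun a ha ha1 =>
    orderOf_eq_prime (hexp a ha) ha1
  obtain ⟨c, hc⟩ := isConj_iff.1
    (Involution.StrongEmb.isConj_involutions hse (hord v hv hv1) (hord w hw hw1))
  haveI : IsMulCommutative (P : Subgroup Q) := ⟨⟨fun a b => Subtype.ext (hab a a.2 b b.2)⟩⟩
  obtain ⟨n, hn, hne⟩ := P.conj_eq_normalizer_conj_of_mem v c⁻¹ hv (by
    rw [inv_inv, hc]; exact hw)
  rw [inv_inv, hc] at hne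
  exact ⟨n⁻¹, inv_mem hn, by rw [inv_inv]; exact hne.symm⟩

end Cfsg.Agent.Pyramidal
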