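import Cfsg.Agent.Lib.Pyramidal.Sign
import Cfsg.Agent.Lib.Pyramidal.StrongEmb
import Cfsg.Agent.Lib.CamKan.Main
import Cfsg.Agent.Lib.HigmanTransitive.Main

/-!
# Centralisers of a normal subgroup carrying all involutions

If an elementary abelian normal subgroup `E` of order `2 ^ a`, `2 ^ a - 1` prime, contains all
involutions and they are all conjugate, then its centraliser is solvable.
-/

set_option autoImplicit false

namespace Cfsg.Agent.Pyramidal

open Module Cfsg.Agent.CamKan

universe u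

/-- The standing hypotheses on `E`. -/
structure Cfg (G : Type u) [Group G] (E : Subgroup G) (a : ℕ) : Prop where
  normal : E.Normal
  exp : ∀ x ∈ E, x * x = 1
  inv : ∀ x : G, x * x = 1 → x ∈ E
  card : Nat.card E = 2 ^ a
  two_le : 2 ≤ a
  prime : (2 ^ a - 1).Prime
  trans : ∀ x ∈ E, x ≠ 1 → ∀ y ∈ E, y ≠ 1 → ∃ g : G, g * x * g⁻¹ = y

variable {G : Type u} [Group G] {E : Subgroup G} {a : ℕ}

theorem Cfg.comm (h : Cfg G E a) {x y : G} (hx : x ∈ E) (hy : y ∈ E) : x * y = y * x := by
  have hinv : ∀ {z : G}, z ∈ E → z⁻¹ = z := fun hz => inv_eq_of_mul_eq_one_right (h.exp _ hz)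
  calc x * y = (x * y)⁻¹ := (hinv (E.mul_mem hx hy)).symm
    _ = y * x := by rw [mul_inv_rev, hinv hx, hinv hy]

/-- A permutation of prime order of `E`, fixing `1`, moves the other elements transitively. -/
theorem trans_of_orderOf {M : Type*} [Group M] [Finite M] {p : ℕ} (hp : p.Prime)
    (hM : Nat.card M = p + 1) (φ : MulAut M) (hφ : orderOf φ = p) :
    ∀ x y : M, x ≠ 1 → y ≠ 1 → ∃ k : ℤ, (φ ^ k) x = y := by
  classical
  obtain ⟨u, hu⟩ : ∃ u, φ u ≠ u := by
    by_contra hc; push Not at hc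
    rw [show φ = 1 from MulEquiv.ext hc, orderOf_one] at hφ
    exact hp.one_lt.ne hφ
  have hu1 : u ≠ 1 := fun e => hu (by rw [e, map_one])
  have h1 : (MulAction.orbit (Subgroup.zpowers φ) u).ncard ∣ p := by
    rw [← MulAction.index_stabilizer, ← hφ, ← Nat.card_zpowers]
    exact Subgroup.index_dvd_card _
  have h2 : (MulAction.orbit (Subgroup.zpowers φ) u).ncard = p := by
    rcases (Nat.dvd_prime hp).1 h1 with e | e
    · exfalso
      obtain ⟨z, hz⟩ := Set.ncard_eq_one.1 e
      have e1 := MulAction.mem_orbit_self (M := Subgroup.zpowers φ) u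
      have e2 : φ u ∈ MulAction.orbit (Subgroup.zpowers φ) u := ⟨⟨φ, Subgroup.mem_zpowers φ⟩, rfl⟩
      rw [hz] at e1 e2
      exact hu (e2.trans e1.symm)
    · exact e
  have hall : MulAction.orbit (Subgroup.zpowers φ) u = (Set.univ : Set M) \ {1} := by
    refine Set.eq_of_subset_of_ncard_le ?_ ?_ (Set.toFinite _)
    · rintro _ ⟨⟨k, hk⟩, rfl⟩
      exact ⟨trivial, fun e => hu1 (k.injective (e.trans k.map_one.symm))⟩
    · rw [h2, Set.ncard_diff_singleton_of_mem (Set.mem_univ _), Set.ncard_univ, hM]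
      omega
  intro x y hx hy
  obtain ⟨⟨k, hk⟩, hkx⟩ : x ∈ MulAction.orbit (Subgroup.zpowers φ) u := by
    rw [hall]; exact ⟨trivial, hx⟩
  obtain ⟨⟨l, hl⟩, hly⟩ : y ∈ MulAction.orbit (Subgroup.zpowers φ) u := by
    rw [hall]; exact ⟨trivial, hy⟩
  obtain ⟨m, hm⟩ := Subgroup.mem_zpowers_iff.1 (mul_mem hl (inv_mem hk))
  refine ⟨m, ?_⟩
  rw [hm, ← hkx, ← hly]
  change (l * k⁻¹) (k u) = l u
  simp

/-- An element normalising an abelian Sylow 2-subgroup whose involutions it centralises
centralises it. -/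
theorem commute_of_abelian {G : Type u} [Group G] [Finite G] {E : Subgroup G} (T : Sylow 2 G)
    (hexp : ∀ x ∈ E, x * x = 1) (hinv : ∀ x : G, x * x = 1 → x ∈ E)
    (hab : ∀ x ∈ (T : Subgroup G), ∀ y ∈ (T : Subgroup G), x * y = y * x)
    {g : G} (hg : g ∈ Subgroup.normalizer ((T : Subgroup G) : Set G))
    (hfix : ∀ e ∈ E, g * e = e * g) : g ∈ Subgroup.centralizer ((T : Subgroup G) : Set G) := by
  haveI : Fact (Nat.Prime 2) := ⟨Nat.prime_two⟩
  set N := Subgroup.normalizer ((T : Subgroup G) : Set G) with hN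
  set d := ((T : Subgroup G).subgroupOf N).index with hd
  have hdodd : Odd d := Nat.not_even_iff_odd.1 fun h => T.not_dvd_index
    (h.two_dvd.trans (Subgroup.relIndex_dvd_index_of_le Subgroup.le_normalizer))
  have hgd : g ^ d ∈ (T : Subgroup G) :=
    Subgroup.mem_subgroupOf.1 (Subgroup.pow_index_mem ((T : Subgroup G).subgroupOf N) (⟨g, hg⟩ : N))
  set w := orderOf g with hw
  obtain ⟨k, l, hl, hkl⟩ := Nat.exists_eq_two_pow_mul_odd (show w ≠ 0 from (orderOf_pos g).ne')
  set h := g ^ (2 ^ k) with hh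
  have hhl : h ^ l = 1 := by rw [hh, ← pow_mul, ← hkl, hw, pow_orderOf_eq_one]
  have hhN : h ∈ N := pow_mem hg _
  have hfixh : ∀ e ∈ E, h * e = e * h := fun e he => (Commute.pow_left (hfix e he) _)
  have key : ∀ i : ℕ, ∀ x ∈ (T : Subgroup G), x ^ (2 ^ i) = 1 → h * x = x * h := by
    intro i
    induction i with
    | zero => intro x _ hx; rw [pow_zero, pow_one] at hx; simp [hx]
    | succ i ih =>
      intro x hx hx2
      have hx' : x ^ 2 ∈ (T : Subgroup G) := pow_mem hx 2
      have h1 := ih (x ^ 2) hx' (by rw [← pow_mul, ← pow_succ']; exact hx2)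
      set y := h * x * h⁻¹ with hy
      have hyT : y ∈ (T : Subgroup G) := (Subgroup.mem_normalizer_iff.1 hhN x).1 hx
      have hy2 : y ^ 2 = x ^ 2 := by rw [hy, conj_pow, h1, mul_inv_cancel_right]
      have he : x⁻¹ * y ∈ E := hinv _ (by
        have hc : Commute x⁻¹ y := (show Commute x y from hab x hx y hyT).inv_left
        rw [← sq, hc.mul_pow, hy2, inv_pow, inv_mul_cancel])
      set e := x⁻¹ * y with hedef
      have hit : ∀ j : ℕ, h ^ j * x * (h ^ j)⁻¹ = x * e ^ j := by
        intro j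
        induction j with
        | zero => simp
        | succ j ihj =>
          calc h ^ (j + 1) * x * (h ^ (j + 1))⁻¹ = h * (h ^ j * x * (h ^ j)⁻¹) * h⁻¹ := by
                rw [pow_succ']; group
            _ = h * (x * e ^ j) * h⁻¹ := by rw [ihj]
            _ = (h * x * h⁻¹) * (h * e ^ j * h⁻¹) := by group
            _ = x * e * e ^ j := by
                rw [hfixh _ (pow_mem he j), mul_inv_cancel_right, hedef, mul_inv_cancel_left, hy]
            _ = x * e ^ (j + 1) := by rw [mul_assoc, ← pow_succ']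
      have h2 := hit l
      rw [hhl, one_mul, inv_one, mul_one, left_eq_mul] at h2
      have he1 : e = 1 := by
        obtain ⟨j, hj⟩ := hl
        rw [hj, pow_succ, pow_mul, sq, hexp e he, one_pow, one_mul] at h2
        exact h2
      rw [hedef, inv_mul_eq_one] at he1
      calc h * x = h * x * h⁻¹ * h := by group
        _ = x * h := by rw [← hy, ← he1]
  rw [Subgroup.mem_centralizer_iff]
  intro x hx
  obtain ⟨i, hi⟩ := T.2 ⟨x, hx⟩
  have h1 : Commute h x := key i x hx (congrArg Subtype.val hi)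
  have h2 : Commute (g ^ d) x := hab _ hgd x hx
  have hco : Int.gcd ((2 ^ k : ℕ) : ℤ) (d : ℤ) = 1 := by
    rw [Int.gcd_natCast_natCast]
    exact Nat.Coprime.pow_left _ (Nat.coprime_two_left.2 hdodd)
  have hg' : g = h ^ Nat.gcdA (2 ^ k) d * (g ^ d) ^ Nat.gcdB (2 ^ k) d := by
    rw [hh, ← zpow_natCast g (2 ^ k), ← zpow_natCast g d, ← zpow_mul, ← zpow_mul, ← zpow_add,
      ← Nat.gcd_eq_gcd_ab]
    rw [Int.gcd_natCast_natCast] at hco
    rw [hco, Nat.cast_one, zpow_one]
  rw [hg']
  exact ((h1.zpow_left _).mul_left (h2.zpow_left _)).eq.symm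

/-- Burnside's transfer theorem with the Odd Order Theorem. -/
theorem solvable_of_normalizer_le {G : Type u} [Group G] [Finite G] (T : Sylow 2 G)
    (h : Subgroup.normalizer ((T : Subgroup G) : Set G) ≤ Subgroup.centralizer ((T : Subgroup G) : Set G)) :
    Group.IsSolvable G := by
  haveI : Fact (Nat.Prime 2) := ⟨Nat.prime_two⟩
  set K := (MonoidHom.transferSylow T h).ker
  haveI : Group.IsSolvable K := Cfsg.Agent.S0205.result
    (Nat.not_even_iff_odd.1 fun h' => MonoidHom.not_dvd_card_ker_transferSylow T h h'.two_dvd)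
  haveI : Group.IsNilpotent (T : Subgroup G) := T.2.isNilpotent
  exact solvable_of_ker_le_range K.subtype (MonoidHom.transferSylow T h) (by simp [K])

namespace Cfg

variable [Finite G] (hE : Cfg G E a)
include hE

/-- The centraliser of `E` is solvable. -/
theorem kernel_solvable : Group.IsSolvable (Subgroup.centralizer (E : Set G)) := by
  classical
  haveI : Fact (Nat.Prime 2) := ⟨Nat.prime_two⟩
  haveI := hE.normal
  set C := Subgroup.centralizer (E : Set G) with hC
  haveI hCn : C.Normal := inferInstance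
  have hEC : E ≤ C := fun x hx => Subgroup.mem_centralizer_iff.2 fun y hy => hE.comm hy hx
  set E' := E.subgroupOf C with hE'
  have hE'exp : ∀ x ∈ E', x * x = 1 := fun x hx => Subtype.ext (hE.exp _ hx)
  have hE'inv : ∀ x : C, x * x = 1 → x ∈ E' := fun x hx => hE.inv _ (congrArg Subtype.val hx)
  have hE'cen : ∀ e ∈ E', ∀ x : C, e * x = x * e := fun e he x =>
    Subtype.ext (Subgroup.mem_centralizer_iff.1 x.2 _ he)
  obtain ⟨T⟩ : Nonempty (Sylow 2 C) := inferInstance
  have hET : E' ≤ (T : Subgroup C) := by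
    have hp : IsPGroup 2 E' := IsPGroup.of_card (n := a) (by
      rw [hE', Nat.card_congr (Subgroup.subgroupOfEquivOfLe hEC).toEquiv, hE.card])
    obtain ⟨S, hS⟩ := hp.exists_le_sylow
    obtain ⟨c, rfl⟩ := MulAction.exists_smul_eq C S T
    intro x hx
    rw [Sylow.coe_subgroup_smul]
    refine ⟨x, hS hx, ?_⟩
    change c * x * c⁻¹ = x
    rw [← hE'cen x hx c, mul_inv_cancel_right]
  by_cases hab : ∀ x ∈ (T : Subgroup C), ∀ y ∈ (T : Subgroup C), x * y = y * x
  · exact solvable_of_normalizer_le T fun g hg => commute_of_abelian T hE'exp hE'inv hab hg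
      fun e he => (hE'cen e he g).symm
  -- an element normalising `T` of prime order on `E`
  set p := 2 ^ a - 1 with hpdef
  haveI : Fact p.Prime := ⟨hE.prime⟩
  have hp1 : Nat.card E = p + 1 := by
    rw [hE.card, hpdef, Nat.sub_add_cancel Nat.one_le_two_pow]
  set act : G →* MulAut E := MulAut.conjNormal with hact
  have hdvd : p ∣ Nat.card act.range := by
    obtain ⟨x, hx⟩ : ∃ x : E, x ≠ 1 := by
      haveI : Nontrivial E := by
        rw [← Finite.one_lt_card_iff_nontrivial, hp1]
        exact Nat.lt_add_of_pos_left hE.prime.pos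
      exact exists_ne 1
    have hO : MulAction.orbit act.range x = (Set.univ : Set E) \ {1} := by
      ext y
      constructor
      · rintro ⟨⟨k, hk⟩, rfl⟩
        exact ⟨trivial, fun e => hx (k.injective (e.trans k.map_one.symm))⟩
      · intro hy
        obtain ⟨g, hg⟩ := hE.trans x x.2 (fun e => hx (Subtype.ext e)) y y.2
          (fun e => hy.2 (Subtype.ext e))
        exact ⟨⟨act g, ⟨g, rfl⟩⟩, Subtype.ext hg⟩
    have h1 := congrArg Set.ncard hO
    rw [← MulAction.index_stabilizer, Set.ncard_diff_singleton_of_mem (Set.mem_univ _),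
      Set.ncard_univ, hp1, Nat.add_sub_cancel] at h1
    rw [← h1]
    exact Subgroup.index_dvd_card _
  obtain ⟨⟨φ, g₀, rfl⟩, hφ'⟩ := exists_prime_orderOf_dvd_card' (G := act.range) p hdvd
  have hφ : orderOf (act g₀) = p := (Subgroup.orderOf_mk _ _).symm.trans hφ'
  obtain ⟨g, hg, hgact⟩ : ∃ g ∈ Subgroup.normalizer ((((T : Subgroup C).map C.subtype) : Subgroup G) : Set G),
      act g = act g₀ := by
    have h1 : g₀ ∈ Subgroup.normalizer ((((T : Subgroup C).map C.subtype) : Subgroup G) : Set G) ⊔ C := by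
      rw [Sylow.normalizer_sup_eq_top T]; trivial
    obtain ⟨n, hn, c, hc, rfl⟩ : ∃ n ∈ Subgroup.normalizer ((((T : Subgroup C).map C.subtype) : Subgroup G) : Set G),
        ∃ c ∈ C, n * c = g₀ := by
      rw [← SetLike.mem_coe, Subgroup.coe_mul_of_left_le_normalizer_right _ C
        (Subgroup.normalizer_eq_top_iff.2 hCn ▸ le_top)] at h1
      exact h1
    refine ⟨n, hn, ?_⟩
    have : act c = 1 := MulEquiv.ext fun e => Subtype.ext (by
      change c * (e : G) * c⁻¹ = e
      rw [← Subgroup.mem_centralizer_iff.1 hc e e.2, mul_inv_cancel_right])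
    rw [map_mul, this, mul_one]
  -- the induced automorphism of `T`
  set T₁ := (T : Subgroup C).map C.subtype with hT₁
  let eT : (T : Subgroup C) ≃* T₁ := Subgroup.equivMapOfInjective _ _ C.subtype_injective
  have heT : ∀ x : (T : Subgroup C), (eT x : G) = ((x : C) : G) := fun x => rfl
  let τ₁ : MulAut T₁ :=
    { toFun := fun x => ⟨g * x * g⁻¹, (Subgroup.mem_normalizer_iff.1 hg x).1 x.2⟩
      invFun := fun x => ⟨g⁻¹ * x * g, by
        simpa using (Subgroup.mem_normalizer_iff.1 (inv_mem hg) x).1 x.2⟩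
      left_inv := fun x => Subtype.ext (by simp [mul_assoc])
      right_inv := fun x => Subtype.ext (by simp [mul_assoc])
      map_mul' := fun x y => Subtype.ext (by simp [mul_assoc]) }
  let τ : MulAut (T : Subgroup C) := (eT.trans τ₁).trans eT.symm
  have hτval : ∀ x, ((τ x : C) : G) = g * ((x : C) : G) * g⁻¹ := fun x => by
    rw [← heT, ← heT]
    simp only [τ, MulEquiv.trans_apply, MulEquiv.apply_symm_apply]
    rfl
  have hτact : ∀ (k : ℤ) (x : (T : Subgroup C)) (hx : ((x : C) : G) ∈ E),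
      (((τ ^ k) x : C) : G) = ((act g ^ k) ⟨_, hx⟩ : E) := by
    intro k
    induction k using Int.induction_on with
    | zero => intro x hx; simp
    | succ k ih =>
      intro x hx
      have hx' : (((τ x : (T : Subgroup C)) : C) : G) ∈ E := by
        rw [hτval]; exact hE.normal.conj_mem _ hx g
      rw [zpow_add_one, zpow_add_one, MulAut.mul_apply, MulAut.mul_apply, ih _ hx']
      congr 2
      exact Subtype.ext (hτval x)
    | pred k ih =>
      intro x hx
      have hinv : (((τ⁻¹ x : (T : Subgroup C)) : C) : G) = g⁻¹ * ((x : C) : G) * g := by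
        have := hτval (τ⁻¹ x)
        rw [MulAut.apply_inv_self] at this
        rw [this]; simp [mul_assoc]
      have hx' : (((τ⁻¹ x : (T : Subgroup C)) : C) : G) ∈ E := by
        rw [hinv]; simpa using hE.normal.conj_mem _ hx g⁻¹
      rw [sub_eq_add_neg, zpow_add, zpow_add, zpow_neg_one, zpow_neg_one, MulAut.mul_apply,
        MulAut.mul_apply, ih _ hx']
      congr 2
      refine (act g).injective (Subtype.ext ?_)
      rw [MulAut.apply_inv_self]
      change g * _ * g⁻¹ = _
      rw [hinv]; simp [mul_assoc]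
  -- structure of `T`
  have hcentral : ∀ x ∈ (T : Subgroup C), x * x = 1 → x ∈ E' := fun x _ hx => hE'inv x hx
  obtain ⟨x₁, x₂, hx₁₂, hx₁, hx₂⟩ : ∃ x y : E, x ≠ y ∧ x ≠ 1 ∧ y ≠ 1 := by
    obtain ⟨x, hx⟩ : ∃ x : E, x ≠ 1 := by
      haveI : Nontrivial E := by
        rw [← Finite.one_lt_card_iff_nontrivial, hp1]
        exact Nat.lt_add_of_pos_left hE.prime.pos
      exact exists_ne 1
    refine ⟨x, act g x, fun e => ?_, hx, fun e => hx ((act g).injective (e.trans (map_one (act g)).symm))⟩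
    obtain ⟨y, hy, hyx⟩ : ∃ y : E, y ≠ 1 ∧ y ≠ x := by
      by_contra hc; push Not at hc
      have : Nat.card E ≤ 2 := by
        have hsub : (Set.univ : Set E) ⊆ {1, x} := fun y _ => by
          by_cases hy : y = 1
          · exact Or.inl hy
          · exact Or.inr (hc y hy)
        calc Nat.card E = (Set.univ : Set E).ncard := Set.ncard_univ E |>.symm
          _ ≤ ({1, x} : Set E).ncard := Set.ncard_le_ncard hsub (Set.toFinite _)
          _ ≤ 2 := Set.ncard_insert_le _ _ |>.trans (by rw [Set.ncard_singleton])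
      rw [hE.card] at this
      have h4 : 2 ^ 2 ≤ 2 ^ a := Nat.pow_le_pow_right (by norm_num) hE.two_le
      omega
    obtain ⟨k, hk⟩ := trans_of_orderOf hE.prime hp1 (act g) (hgact ▸ hφ) x y hx hy
    refine hyx ?_
    have hfix : act g ∈ MulAction.stabilizer (MulAut E) x := e.symm
    rw [← hk]
    exact (Subgroup.zpow_mem _ hfix k)
  have mk : ∀ x : E, (⟨(x : G), hEC x.2⟩ : C) ∈ (T : Subgroup C) := fun x => hET x.2
  obtain ⟨hcen, hsq, -, -⟩ := HigmanTransitive.structure_thm (G := (T : Subgroup C)) T.2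
    (by
      push Not at hab
      obtain ⟨x, hx, y, hy, hxy⟩ := hab
      exact ⟨⟨x, hx⟩, ⟨y, hy⟩, fun e => hxy (congrArg Subtype.val e)⟩)
    ⟨⟨⟨x₁, hEC x₁.2⟩, mk x₁⟩, ⟨⟨x₂, hEC x₂.2⟩, mk x₂⟩,
      fun e => hx₁₂ (Subtype.ext (congrArg (fun z : (T : Subgroup C) => ((z : C) : G)) e)),
      fun e => hx₁ (Subtype.ext (congrArg (fun z : (T : Subgroup C) => ((z : C) : G)) e)),
      by rw [sq]; exact Subtype.ext (Subtype.ext (hE.exp _ x₁.2)),
      fun e => hx₂ (Subtype.ext (congrArg (fun z : (T : Subgroup C) => ((z : C) : G)) e)),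
      by rw [sq]; exact Subtype.ext (Subtype.ext (hE.exp _ x₂.2))⟩
    ⟨Subgroup.zpowers τ, Group.isSolvable_of_comm fun x y => by
      obtain ⟨_, m, rfl⟩ := x; obtain ⟨_, l, rfl⟩ := y
      exact Subtype.ext (((Commute.refl τ).zpow_zpow m l).eq), fun x y hx1 hx hy1 hy => by
      rw [sq] at hx hy
      have hxE : ((x : C) : G) ∈ E := hE'inv _ (congrArg Subtype.val hx)
      have hyE : ((y : C) : G) ∈ E := hE'inv _ (congrArg Subtype.val hy)
      obtain ⟨k, hk⟩ := trans_of_orderOf hE.prime hp1 (act g) (hgact ▸ hφ) ⟨_, hxE⟩ ⟨_, hyE⟩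
        (fun e => hx1 (Subtype.ext (Subtype.ext (congrArg (fun z : E => (z : G)) e))))
        (fun e => hy1 (Subtype.ext (Subtype.ext (congrArg (fun z : E => (z : G)) e))))
      exact ⟨τ ^ k, ⟨k, rfl⟩, Subtype.ext (Subtype.ext (by rw [hτact k x hxE, hk]))⟩⟩
  -- squares lie in `E`
  have hsqE : ∀ x ∈ (T : Subgroup C), x * x ∈ E' := fun x hx => by
    have h1 := (hcen _).1 (hsq ⟨x, hx⟩)
    exact hE'inv _ (congrArg Subtype.val h1)
  haveI hE'n : E'.Normal := inferInstance
  set π := QuotientGroup.mk' E' with hπdef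
  have hπ : Function.Surjective π := QuotientGroup.mk'_surjective _
  let P : Sylow 2 (C ⧸ E') := T.mapSurjective hπ
  have hPmap : (P : Subgroup (C ⧸ E')) = (T : Subgroup C).map π := Sylow.coe_mapSurjective hπ T
  have hlift : ∀ v ∈ (P : Subgroup (C ⧸ E')), ∃ t ∈ (T : Subgroup C), π t = v := fun v hv => by
    rw [hPmap] at hv; exact hv
  have hback : ∀ t : C, π t ∈ (P : Subgroup (C ⧸ E')) → t ∈ (T : Subgroup C) := by
    intro t ht
    rw [hPmap] at ht
    have : t ∈ ((T : Subgroup C).map π).comap π := ht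
    rwa [Subgroup.comap_map_eq_self (by rw [hπdef, QuotientGroup.ker_mk']; exact hET)] at this
  have hPexp : ∀ v ∈ (P : Subgroup (C ⧸ E')), v * v = 1 := by
    intro v hv
    obtain ⟨t, ht, rfl⟩ := hlift v hv
    rw [← map_mul]
    exact (QuotientGroup.eq_one_iff _).2 (hsqE t ht)
  have hPab : ∀ v ∈ (P : Subgroup (C ⧸ E')), ∀ w ∈ (P : Subgroup (C ⧸ E')), v * w = w * v := by
    intro v hv w hw
    have hi : ∀ {z}, z ∈ (P : Subgroup (C ⧸ E')) → z⁻¹ = z := fun hz =>
      inv_eq_of_mul_eq_one_right (hPexp _ hz)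
    calc v * w = (v * w)⁻¹ := (hi (mul_mem hv hw)).symm
      _ = w * v := by rw [mul_inv_rev, hi hv, hi hw]
  -- additive pictures of `P` and `E`
  letI : CommGroup (P : Subgroup (C ⧸ E')) :=
    { (inferInstance : Group (P : Subgroup (C ⧸ E'))) with
      mul_comm := fun v w => Subtype.ext (hPab v v.2 w w.2) }
  letI : CommGroup E :=
    { (inferInstance : Group E) with mul_comm := fun v w => Subtype.ext (hE.comm v.2 w.2) }
  letI : Module (ZMod 2) (Additive (P : Subgroup (C ⧸ E'))) := AddCommGroup.zmodModule fun v => by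
    rw [two_nsmul]; exact congrArg Additive.ofMul (Subtype.ext (hPexp _ v.toMul.2))
  letI : Module (ZMod 2) (Additive E) := AddCommGroup.zmodModule fun v => by
    rw [two_nsmul]; exact congrArg Additive.ofMul (Subtype.ext (hE.exp _ v.toMul.2))
  set V := Additive (P : Subgroup (C ⧸ E'))
  set W := Additive E
  -- commutators of `T`
  let kf : C → C → C := fun x y => x⁻¹ * y * x * y⁻¹
  have hkE : ∀ x ∈ (T : Subgroup C), ∀ y ∈ (T : Subgroup C), kf x y ∈ E' := by
    intro x hx y hy
    rw [← QuotientGroup.eq_one_iff]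
    change π (x⁻¹ * y * x * y⁻¹) = 1
    have hx' : π x ∈ (P : Subgroup (C ⧸ E')) := by rw [hPmap]; exact Subgroup.mem_map_of_mem π hx
    have hy' : π y ∈ (P : Subgroup (C ⧸ E')) := by rw [hPmap]; exact Subgroup.mem_map_of_mem π hy
    simp only [map_mul, map_inv]
    rw [mul_assoc (π x)⁻¹, hPab _ hy' _ hx', inv_mul_cancel_left, mul_inv_cancel]
  have hsqmul : ∀ x ∈ (T : Subgroup C), ∀ y ∈ (T : Subgroup C),
      x * y * (x * y) = x * x * (y * y) * kf x y := by
    intro x hx y hy
    have h1 : x * y * (x * y) = x * x * kf x y * (y * y) := by simp only [kf]; group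
    rw [h1, mul_assoc, hE'cen _ (hkE x hx y hy) (y * y), ← mul_assoc]
  have hkl : ∀ x ∈ (T : Subgroup C), ∀ x' ∈ (T : Subgroup C), ∀ y ∈ (T : Subgroup C),
      kf (x * x') y = kf x y * kf x' y := by
    intro x hx x' hx' y hy
    calc kf (x * x') y = x'⁻¹ * kf x y * y * x' * y⁻¹ := by simp only [kf]; group
      _ = kf x y * x'⁻¹ * y * x' * y⁻¹ := by rw [← hE'cen _ (hkE x hx y hy) x'⁻¹]
      _ = kf x y * kf x' y := by simp only [kf]; group
  have hkr : ∀ x ∈ (T : Subgroup C), ∀ y ∈ (T : Subgroup C), ∀ y' ∈ (T : Subgroup C),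
      kf x (y * y') = kf x y * kf x y' := by
    intro x hx y hy y' hy'
    calc kf x (y * y') = x⁻¹ * y * x * (kf x y' * y⁻¹) := by simp only [kf]; group
      _ = x⁻¹ * y * x * (y⁻¹ * kf x y') := by rw [hE'cen _ (hkE x hx y' hy') y⁻¹]
      _ = kf x y * kf x y' := by simp only [kf]; group
  have hkEl : ∀ x ∈ (T : Subgroup C), ∀ y ∈ (T : Subgroup C), ∀ e ∈ E',
      kf (x * e) y = kf x y ∧ kf x (y * e) = kf x y := by
    intro x hx y hy e he
    refine ⟨?_, ?_⟩
    · rw [hkl x hx e (hET he) y hy]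
      have : kf e y = 1 := by
        simp only [kf]
        rw [mul_assoc e⁻¹, ← hE'cen e he y, inv_mul_cancel_left, mul_inv_cancel]
      rw [this, mul_one]
    · rw [hkr x hx y hy e (hET he)]
      have : kf x e = 1 := by
        simp only [kf]
        rw [mul_assoc x⁻¹, hE'cen e he x, inv_mul_cancel_left, mul_inv_cancel]
      rw [this, mul_one]
  choose! lf hlfT hlfπ using hlift
  let L : V → C := fun v => lf (v.toMul : (P : Subgroup (C ⧸ E')))
  have hL : ∀ v : V, L v ∈ (T : Subgroup C) ∧ π (L v) = ((v.toMul : (P : Subgroup (C ⧸ E'))) : C ⧸ E') :=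
    fun v => ⟨hlfT _ v.toMul.2, hlfπ _ v.toMul.2⟩
  have hLadd : ∀ v w : V, ∃ e ∈ E', L (v + w) = L v * L w * e := by
    intro v w
    refine ⟨(L v * L w)⁻¹ * L (v + w), ?_, by group⟩
    rw [← QuotientGroup.eq_one_iff]
    change π _ = 1
    rw [map_mul, map_inv, map_mul, (hL v).2, (hL w).2, (hL (v + w)).2, toMul_add,
      Subgroup.coe_mul, inv_mul_cancel]
  let mkW : ∀ x : C, x ∈ E' → W := fun x hx => Additive.ofMul (⟨(x : G), hx⟩ : E)
  have hmk : ∀ x y hx hy hxy, mkW (x * y) hxy = mkW x hx + mkW y hy := fun x y hx hy hxy => rfl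
  let q : V → W := fun v => mkW (L v * L v) (hsqE _ (hL v).1)
  let cf : V → V → W := fun v w => mkW (kf (L v) (L w)) (hkE _ (hL v).1 _ (hL w).1)
  have hext : ∀ x y hx hy, x = y → mkW x hx = mkW y hy := fun x y hx hy e => by subst e; rfl
  have hcl : ∀ v v' w, cf (v + v') w = cf v w + cf v' w := by
    intro v v' w
    obtain ⟨e, he, heq⟩ := hLadd v v'
    rw [← hmk _ _ (hkE _ (hL v).1 _ (hL w).1) (hkE _ (hL v').1 _ (hL w).1)
      (mul_mem (hkE _ (hL v).1 _ (hL w).1) (hkE _ (hL v').1 _ (hL w).1))]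
    refine hext _ _ _ _ ?_
    rw [heq, (hkEl _ (mul_mem (hL v).1 (hL v').1) _ (hL w).1 e he).1,
      hkl _ (hL v).1 _ (hL v').1 _ (hL w).1]
  have hcr : ∀ v w w', cf v (w + w') = cf v w + cf v w' := by
    intro v w w'
    obtain ⟨e, he, heq⟩ := hLadd w w'
    rw [← hmk _ _ (hkE _ (hL v).1 _ (hL w).1) (hkE _ (hL v).1 _ (hL w').1)
      (mul_mem (hkE _ (hL v).1 _ (hL w).1) (hkE _ (hL v).1 _ (hL w').1))]
    refine hext _ _ _ _ ?_
    rw [heq, (hkEl _ (hL v).1 _ (mul_mem (hL w).1 (hL w').1) e he).2,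
      hkr _ (hL v).1 _ (hL w).1 _ (hL w').1]
  let c : V →ₗ[ZMod 2] V →ₗ[ZMod 2] W :=
    (AddMonoidHom.mk' (fun v => (AddMonoidHom.mk' (cf v) (hcr v)).toZModLinearMap 2)
      fun v v' => LinearMap.ext fun w => hcl v v' w).toZModLinearMap 2
  have hq_lift : ∀ (v : V) (t : C) (ht : t ∈ (T : Subgroup C)),
      π t = ((v.toMul : (P : Subgroup (C ⧸ E'))) : C ⧸ E') → q v = mkW (t * t) (hsqE t ht) := by
    intro v t ht htv
    refine hext _ _ _ _ ?_
    obtain ⟨e, he, heq⟩ : ∃ e ∈ E', L v = t * e := by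
      refine ⟨t⁻¹ * L v, ?_, by group⟩
      rw [← QuotientGroup.eq_one_iff]
      change π _ = 1
      rw [map_mul, map_inv, htv, (hL v).2, inv_mul_cancel]
    rw [heq]
    calc t * e * (t * e) = t * (e * t) * e := by group
      _ = t * (t * e) * e := by rw [hE'cen e he t]
      _ = t * t := by rw [mul_assoc, mul_assoc, hE'exp e he, mul_one]
  have hq : ∀ v w, q (v + w) = q v + q w + c v w := by
    intro v w
    have h1 := hq_lift (v + w) (L v * L w) (mul_mem (hL v).1 (hL w).1) (by
      rw [map_mul, (hL v).2, (hL w).2, toMul_add, Subgroup.coe_mul])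
    rw [h1]
    change _ = mkW _ _ + mkW _ _ + mkW _ _
    rw [← hmk _ _ _ _ (mul_mem (hsqE _ (hL v).1) (hsqE _ (hL w).1)),
      ← hmk _ _ _ _ (mul_mem (mul_mem (hsqE _ (hL v).1) (hsqE _ (hL w).1)) (hkE _ (hL v).1 _ (hL w).1))]
    exact hext _ _ _ _ (hsqmul _ (hL v).1 _ (hL w).1)
  have hani : ∀ v, q v = 0 → v = 0 := by
    intro v hv
    have h1 : L v * L v = 1 := Subtype.ext (congrArg (fun z : W => ((z.toMul : E) : G)) hv)
    have h2 := (QuotientGroup.eq_one_iff (L v)).2 (hE'inv _ h1)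
    have h3 : π (L v) = 1 := h2
    rw [(hL v).2] at h3
    exact Additive.toMul.injective (Subtype.ext h3)
  -- the symmetries
  have hsymm : ∀ k : ℤ, ∃ s : V ≃ V, ∀ v, q (s v) =
      Additive.ofMul ((act g ^ k) ((q v).toMul : E)) := by
    intro k
    have hwd : ∀ (k : ℤ) (v : (P : Subgroup (C ⧸ E'))) (t : C) (ht : t ∈ (T : Subgroup C)),
        π t = (v : C ⧸ E') →
        π (((τ ^ k) ⟨t, ht⟩ : (T : Subgroup C)) : C) =
          π (((τ ^ k) ⟨lf v, hlfT _ v.2⟩ : (T : Subgroup C)) : C) := by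
      intro k v t ht htv
      have hd : t⁻¹ * lf v ∈ E' := by
        rw [← QuotientGroup.eq_one_iff]
        change π _ = 1
        rw [map_mul, map_inv, htv, hlfπ _ v.2, inv_mul_cancel]
      have h1 : (((τ ^ k) (⟨t, ht⟩⁻¹ * ⟨lf v, hlfT _ v.2⟩) : (T : Subgroup C)) : C) ∈ E' := by
        change ((_ : C) : G) ∈ E
        rw [hτact k ((⟨t, ht⟩ : (T : Subgroup C))⁻¹ * (⟨lf v, hlfT _ v.2⟩ : (T : Subgroup C))) hd]
        exact Subtype.coe_prop _
      have h2 : π (((τ ^ k) (⟨t, ht⟩⁻¹ * ⟨lf v, hlfT _ v.2⟩) : (T : Subgroup C)) : C) = 1 :=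
        (QuotientGroup.eq_one_iff _).2 h1
      rw [map_mul, map_inv, Subgroup.coe_mul, Subgroup.coe_inv, map_mul, map_inv] at h2
      exact (inv_mul_eq_one.1 h2)
    let F : ℤ → ↥(P : Subgroup (C ⧸ E')) → ↥(P : Subgroup (C ⧸ E')) := fun k v =>
      ⟨π (((τ ^ k) ⟨lf v, hlfT _ v.2⟩ : (T : Subgroup C)) : C),
        hPmap.symm.le (Subgroup.mem_map_of_mem π (Subtype.coe_prop _))⟩
    have hFinv : ∀ k v, F (-k) (F k v) = v := by
      intro k v
      refine Subtype.ext ?_
      change π _ = _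
      rw [← hwd (-k) (F k v) _ (Subtype.coe_prop _) rfl]
      change π (((τ ^ (-k)) ((τ ^ k) ⟨lf v, hlfT _ v.2⟩) : (T : Subgroup C)) : C) = _
      rw [← MulAut.mul_apply, ← zpow_add, neg_add_cancel, zpow_zero, MulAut.one_apply, hlfπ _ v.2]
    refine ⟨⟨fun v => Additive.ofMul (F k v.toMul), fun v => Additive.ofMul (F (-k) v.toMul),
      fun v => congrArg Additive.ofMul (hFinv k v.toMul), fun v => ?_⟩, fun v => ?_⟩
    · have := hFinv (-k) v.toMul
      rw [neg_neg] at this
      exact congrArg Additive.ofMul this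
    · rw [Equiv.coe_fn_mk, hq_lift _ _ ((τ ^ k) ⟨L v, (hL v).1⟩).2 rfl]
      apply congrArg Additive.ofMul
      apply Subtype.ext
      have h1 := hτact k ((⟨L v, (hL v).1⟩ : (T : Subgroup C)) * (⟨L v, (hL v).1⟩ : (T : Subgroup C))) (hsqE _ (hL v).1)
      rw [map_mul] at h1
      exact h1
  have hW : finrank (ZMod 2) W = a := by
    have h1 := Module.natCard_eq_pow_finrank (K := ZMod 2) (V := W)
    rw [Nat.card_zmod, Nat.card_congr Additive.toMul, hE.card] at h1
    exact (Nat.pow_right_injective le_rfl h1).symm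
  -- transitivity on functionals
  have htr : ∀ χ χ' : Dual (ZMod 2) W, χ ≠ 0 → χ' ≠ 0 →
      ∃ s : V ≃ V, ∀ v, χ (q (s v)) = χ' (q v) := by
    intro χ χ' hχ hχ'
    let lin : MulAut E →* (W ≃ₗ[ZMod 2] W) :=
      { toFun := fun f =>
          { (MulEquiv.toAdditive f : W ≃+ W) with
            map_smul' := fun r v => by
              rcases z2 r with rfl | rfl
              · simp
              · simp }
        map_one' := by ext v; rfl
        map_mul' := fun f f' => by ext v; rfl }
    set ρ : Subgroup (W ≃ₗ[ZMod 2] W) := (Subgroup.zpowers (act g)).map lin with hρ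
    haveI : Nontrivial W := by
      rw [← Finite.one_lt_card_iff_nontrivial, card_pow, hW]
      exact Nat.one_lt_two_pow (by have := hE.two_le; omega)
    have htv : ∀ v w : W, v ≠ 0 → w ≠ 0 → ∃ x ∈ (⊤ : Subgroup ρ), (duoOf ρ).ρ x v = w := by
      intro v w hv hw
      obtain ⟨k, hk⟩ := trans_of_orderOf hE.prime hp1 (act g) (hgact ▸ hφ) v.toMul w.toMul
        (fun e => hv (Additive.toMul.injective e)) (fun e => hw (Additive.toMul.injective e))
      exact ⟨⟨lin (act g ^ k), ⟨_, ⟨k, rfl⟩, rfl⟩⟩, trivial, congrArg Additive.ofMul hk⟩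
    obtain ⟨⟨_, _, ⟨k, rfl⟩, rfl⟩, -, hx⟩ := (duoOf ρ).trans_dual ⊤ htv χ' χ hχ' hχ
    obtain ⟨s, hs⟩ := hsymm k
    refine ⟨s, fun v => ?_⟩
    rw [hs]
    have := LinearMap.congr_fun hx (Additive.ofMul ((act g ^ k) ((q v).toMul : E)))
    rw [← this]
    change χ' ((lin (act g ^ k)).symm _) = _
    congr 1
    exact (lin (act g ^ k)).symm_apply_apply (q v)
  have hcardP : Nat.card (P : Subgroup (C ⧸ E')) = 2 ^ finrank (ZMod 2) V := by
    rw [← card_pow]; exact Nat.card_congr Additive.ofMul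
  -- conjugation in `C` preserves `q`
  have hconjq : ∀ (n : C ⧸ E') (v w : V),
      n * ((v.toMul : (P : Subgroup (C ⧸ E'))) : C ⧸ E') * n⁻¹ =
        ((w.toMul : (P : Subgroup (C ⧸ E'))) : C ⧸ E') → q w = q v := by
    intro n v w hn
    obtain ⟨x, rfl⟩ := hπ n
    have h1 : π (x * L v * x⁻¹) = ((w.toMul : (P : Subgroup (C ⧸ E'))) : C ⧸ E') := by
      rw [map_mul, map_mul, map_inv, (hL v).2]; exact hn
    rw [hq_lift w _ (hback _ (h1 ▸ w.toMul.2)) h1]
    refine hext _ _ _ _ ?_
    calc x * L v * x⁻¹ * (x * L v * x⁻¹) = x * (L v * L v) * x⁻¹ := by group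
      _ = L v * L v := by rw [← hE'cen _ (hsqE _ (hL v).1) x, mul_inv_cancel_right]
  haveI : IsMulCommutative E' := ⟨⟨fun x y => Subtype.ext (hE'cen x x.2 y)⟩⟩
  haveI : Group.IsSolvable E' := Group.isSolvable_of_comm fun x y => Subtype.ext (hE'cen x x.2 y)
  suffices Group.IsSolvable (C ⧸ E') by
    haveI := this
    exact solvable_of_ker_le_range E'.subtype π (by rw [hπdef, QuotientGroup.ker_mk', Subgroup.range_subtype])
  rcases dims q c hq hani (by rw [hW]; have := hE.two_le; omega) htr with hn | hn | ⟨hn, hnd⟩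
  · refine Cfsg.Agent.S0205.result (Nat.not_even_iff_odd.1 fun hev => ?_)
    have h1 := (P : Subgroup (C ⧸ E')).card_mul_index
    rw [hcardP, hn, pow_zero, one_mul] at h1
    exact P.not_dvd_index (h1 ▸ hev.two_dvd)
  · refine solvable_of_normalizer_le P fun n hn' => ?_
    have hinj : ∀ v w : V, q v = q w → v = w := by
      letI := Fintype.ofFinite V
      have hsurj : Function.Surjective q := by
        intro y
        by_cases hy : y = 0
        · refine ⟨0, ?_⟩
          have := hq 0 0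
          simp only [add_zero, map_zero, LinearMap.zero_apply, vadd_self] at this
          rw [this, hy]
        obtain ⟨v₀, hv₀⟩ : ∃ v₀ : V, v₀ ≠ 0 := by
          haveI : Nontrivial V := by
            rw [← Finite.one_lt_card_iff_nontrivial, card_pow, hn, hW]
            exact Nat.one_lt_two_pow (by have := hE.two_le; omega)
          exact exists_ne 0
        obtain ⟨k, hk⟩ := trans_of_orderOf hE.prime hp1 (act g) (hgact ▸ hφ) (q v₀).toMul y.toMul
          (fun e => hv₀ (hani _ (Additive.toMul.injective e)))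
          (fun e => hy (Additive.toMul.injective e))
        obtain ⟨s, hs⟩ := hsymm k
        exact ⟨s v₀, (hs v₀).trans (congrArg Additive.ofMul hk)⟩
      have hb : Function.Bijective q := (Nat.bijective_iff_surjective_and_card q).2
        ⟨hsurj, by rw [card_pow, card_pow, hn]⟩
      exact hb.1
    rw [Subgroup.mem_centralizer_iff]
    intro v hv
    have hv' : n * v * n⁻¹ ∈ (P : Subgroup (C ⧸ E')) := (Subgroup.mem_normalizer_iff.1 hn' v).1 hv
    have := hinj _ _ (hconjq n (Additive.ofMul ⟨v, hv⟩) (Additive.ofMul ⟨_, hv'⟩) rfl)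
    have h2 : n * v * n⁻¹ = v := congrArg (fun z : V => ((z.toMul : (P : Subgroup (C ⧸ E'))) : C ⧸ E')) this
    exact (mul_inv_eq_iff_eq_mul.1 h2).symm
  · have hloc : ∀ v ∈ (P : Subgroup (C ⧸ E')), v ≠ 1 →
        ∀ n ∈ Subgroup.normalizer ((P : Subgroup (C ⧸ E')) : Set (C ⧸ E')),
          n * v = v * n → n ∈ Subgroup.centralizer ((P : Subgroup (C ⧸ E')) : Set (C ⧸ E')) := by
      intro v hv hv1 n hn' hcomm
      set N := Subgroup.normalizer ((P : Subgroup (C ⧸ E')) : Set (C ⧸ E')) with hN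
      set d := ((P : Subgroup (C ⧸ E')).subgroupOf N).index with hd
      have hdodd : Odd d := Nat.not_even_iff_odd.1 fun h => P.not_dvd_index
        (h.two_dvd.trans (Subgroup.relIndex_dvd_index_of_le Subgroup.le_normalizer))
      have hnd' : n ^ d ∈ (P : Subgroup (C ⧸ E')) := Subgroup.mem_subgroupOf.1
        (Subgroup.pow_index_mem ((P : Subgroup (C ⧸ E')).subgroupOf N) (⟨n, hn'⟩ : N))
      let Lf : ∀ m ∈ N, (V → V) := fun m hm w =>
        Additive.ofMul ⟨m * ((w.toMul : (P : Subgroup (C ⧸ E'))) : C ⧸ E') * m⁻¹,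
          (Subgroup.mem_normalizer_iff.1 hm _).1 w.toMul.2⟩
      let L' : V ≃ₗ[ZMod 2] V :=
        LinearEquiv.ofBijective
          ((AddMonoidHom.mk' (Lf n hn') fun w w' => by
            refine congrArg Additive.ofMul (Subtype.ext ?_)
            change n * ((w.toMul : (P : Subgroup (C ⧸ E'))) * (w'.toMul : (P : Subgroup (C ⧸ E'))) : C ⧸ E') * n⁻¹ =
              n * ((w.toMul : (P : Subgroup (C ⧸ E'))) : C ⧸ E') * n⁻¹ *
                (n * ((w'.toMul : (P : Subgroup (C ⧸ E'))) : C ⧸ E') * n⁻¹)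
            group).toZModLinearMap 2)
          ⟨fun w w' h => by
              have h1 : n * ((w.toMul : (P : Subgroup (C ⧸ E'))) : C ⧸ E') * n⁻¹ =
                  n * ((w'.toMul : (P : Subgroup (C ⧸ E'))) : C ⧸ E') * n⁻¹ :=
                congrArg (fun z : V => ((z.toMul : (P : Subgroup (C ⧸ E'))) : C ⧸ E')) h
              exact Additive.toMul.injective (Subtype.ext (by simpa using h1)),
            fun w => ⟨Lf n⁻¹ (inv_mem hn') w, congrArg Additive.ofMul (Subtype.ext (by
              simp [Lf, mul_assoc]; rfl))⟩⟩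
      have hL' : ∀ (j : ℕ) w, (((L' ^ j) w).toMul : (P : Subgroup (C ⧸ E'))).1 =
          n ^ j * ((w.toMul : (P : Subgroup (C ⧸ E'))) : C ⧸ E') * (n ^ j)⁻¹ := by
        intro j
        induction j with
        | zero => intro w; simp
        | succ j ih =>
          intro w
          rw [pow_succ', LinearEquiv.mul_apply]
          change n * _ * n⁻¹ = _
          rw [ih, pow_succ']
          group
      have hone := fpf q c hq hani hn hnd L' (fun w => hconjq n w _ rfl) hdodd
        (LinearEquiv.ext fun w => by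
          refine Additive.toMul.injective (Subtype.ext ?_)
          rw [hL', hPab _ hnd' _ w.toMul.2, mul_inv_cancel_right]
          rfl)
        (v := Additive.ofMul ⟨v, hv⟩) (fun e => hv1 (congrArg (fun z : V =>
          ((z.toMul : (P : Subgroup (C ⧸ E'))) : C ⧸ E')) e))
        (by
          refine Additive.toMul.injective (Subtype.ext ?_)
          change n * v * n⁻¹ = v
          rw [hcomm, mul_inv_cancel_right])
      rw [Subgroup.mem_centralizer_iff]
      intro w hw
      have h1 := hL' 1 (Additive.ofMul ⟨w, hw⟩)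
      rw [pow_one, pow_one, hone] at h1
      exact (mul_inv_eq_iff_eq_mul.1 h1.symm).symm
    rcases solvable_or_fused P hPab (fun v hv => by rw [sq]; exact hPexp v hv)
        (by rw [hcardP, hn, hW]; exact Nat.pow_le_pow_right (by norm_num) (by have := hE.two_le; omega))
        hloc with hs | hf
    · exact hs
    exfalso
    obtain ⟨v₀, hv₀⟩ : ∃ v₀ : V, v₀ ≠ 0 := by
      haveI : Nontrivial V := by
        rw [← Finite.one_lt_card_iff_nontrivial, card_pow, hn, hW]
        exact Nat.one_lt_two_pow (by have := hE.two_le; omega)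
      exact exists_ne 0
    have hne1 : ∀ {v : V}, v ≠ 0 → ((v.toMul : (P : Subgroup (C ⧸ E'))) : C ⧸ E') ≠ 1 :=
      fun hv e => hv (Additive.toMul.injective (Subtype.ext e))
    have hconst : ∀ v : V, v ≠ 0 → q v = q v₀ := by
      intro v hv
      obtain ⟨m, -, hm⟩ := hf _ v₀.toMul.2 (hne1 hv₀) _ v.toMul.2 (hne1 hv)
      exact hconjq m v₀ v hm
    obtain ⟨k, hk⟩ := trans_of_orderOf hE.prime hp1 (act g) (hgact ▸ hφ) (q v₀).toMul x₁
      (fun e => hv₀ (hani _ (Additive.toMul.injective e))) hx₁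
    obtain ⟨k', hk'⟩ := trans_of_orderOf hE.prime hp1 (act g) (hgact ▸ hφ) (q v₀).toMul x₂
      (fun e => hv₀ (hani _ (Additive.toMul.injective e))) hx₂
    obtain ⟨s, hs⟩ := hsymm k
    obtain ⟨s', hs'⟩ := hsymm k'
    have hs0 : ∀ (s : V ≃ V) (k : ℤ), (∀ v, q (s v) =
        Additive.ofMul ((act g ^ k) ((q v).toMul : E))) → s v₀ ≠ 0 := by
      intro s k hs e
      have := hs v₀
      rw [e] at this
      have hq0 : q 0 = 0 := by
        have h0 := hq 0 0
        simp only [add_zero, map_zero, LinearMap.zero_apply, vadd_self] at h0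
        exact h0
      rw [hq0] at this
      exact hv₀ (hani _ (Additive.toMul.injective ((act g ^ k).injective
        ((congrArg Additive.toMul this.symm).trans (map_one (act g ^ k)).symm))))
    have e1 := (hconst _ (hs0 s k hs)).symm.trans (hs v₀)
    have e2 := (hconst _ (hs0 s' k' hs')).symm.trans (hs' v₀)
    rw [hk] at e1
    rw [hk'] at e2
    exact hx₁₂ (congrArg Additive.toMul (e1.symm.trans e2))

end Cfg

end Cfsg.Agent.Pyramidal
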