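import Mathlib

/-!
# Preimages of a linear group in dimension at least five

An element of order two over a cyclic group of order `3r` without fixed points gives an involution
outside the kernel.
-/

set_option autoImplicit false
set_option linter.style.haveILetI false

namespace Cfsg.Agent.Pyramidal

open Module

universe u v w

/-- Frattini argument over a subgroup of prime order of the image. -/
theorem lift_normalizer {G : Type u} [Group G] [Finite G] {L : Type v} [Group L] (Φ : G →* L)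
    (M : Subgroup G) {r : ℕ} [Fact r.Prime] (s : L) (hs : orderOf s = r) (hsM : s ∈ M.map Φ) :
    ∃ R : Subgroup G, R ≤ M ∧ IsPGroup r R ∧ s ∈ R.map Φ ∧
      ∀ x ∈ M, Φ x * s * (Φ x)⁻¹ ∈ Subgroup.zpowers s →
        ∃ n ∈ M, n ∈ Subgroup.normalizer (R : Set G) ∧ Φ n = Φ x := by
  classical
  set Z := Subgroup.zpowers s with hZ
  set X := M ⊓ Z.comap Φ with hX
  obtain ⟨x0, hx0, hx0s⟩ := hsM
  obtain ⟨k, m, hm, hkm⟩ := Nat.exists_eq_pow_mul_and_not_dvd (orderOf_pos x0).ne' r (Fact.out : r.Prime).ne_one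
  have hx0X : x0 ∈ X := ⟨hx0, show Φ x0 ∈ Z from hx0s ▸ Subgroup.mem_zpowers s⟩
  set y : X := ⟨x0, hx0X⟩ ^ m with hy
  have hyp : y ^ (r ^ k) = 1 := by
    refine Subtype.ext ?_
    rw [hy, ← pow_mul, SubgroupClass.coe_pow, mul_comm, ← hkm, pow_orderOf_eq_one]
    rfl
  have hP : IsPGroup r (Subgroup.zpowers y) := by
    obtain ⟨i, -, hi⟩ := (Nat.dvd_prime_pow (Fact.out : r.Prime)).1 (orderOf_dvd_of_pow_eq_one hyp)
    exact IsPGroup.of_card (n := i) (by rw [Nat.card_zpowers, hi])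
  obtain ⟨R0, hR0⟩ := hP.exists_le_sylow
  set R := (R0 : Subgroup X).map X.subtype with hR
  have hRM : R ≤ M := fun g hg => by obtain ⟨g', -, rfl⟩ := hg; exact g'.2.1
  have hsR : s ∈ R.map Φ := by
    have h1 : s ^ m ∈ R.map Φ := ⟨(y : G), ⟨y, hR0 (Subgroup.mem_zpowers y), rfl⟩, by
      rw [hy, SubgroupClass.coe_pow, map_pow, hx0s]⟩
    obtain ⟨j, hj⟩ : ∃ j, (s ^ m) ^ j = s := exists_pow_eq_self_of_coprime (by
      rw [hs]; exact Nat.Coprime.symm ((Fact.out : r.Prime).coprime_iff_not_dvd.2 hm))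
    rw [← hj]; exact pow_mem h1 _
  refine ⟨R, hRM, R0.2.map X.subtype, hsR, fun x hx hxs => ?_⟩
  have hconj : ∀ {z}, z ∈ X → x * z * x⁻¹ ∈ X := by
    intro z hz
    refine ⟨M.mul_mem (M.mul_mem hx hz.1) (M.inv_mem hx), ?_⟩
    change Φ (x * z * x⁻¹) ∈ Z
    rw [map_mul, map_mul, map_inv]
    obtain ⟨i, hi⟩ := Subgroup.mem_zpowers_iff.1 (Subgroup.mem_comap.1 hz.2)
    rw [← hi, ← conj_zpow]
    exact Subgroup.zpow_mem _ hxs i
  let c : X →* X :=
    { toFun := fun z => ⟨x * z * x⁻¹, hconj z.2⟩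
      map_one' := Subtype.ext (by simp)
      map_mul' := fun z z' => Subtype.ext (by simp [mul_assoc]) }
  have hcb : Function.Surjective c := Finite.injective_iff_surjective.1 fun z z' e => by
    have := congrArg Subtype.val e
    simpa [c] using this
  obtain ⟨w, hw⟩ := MulAction.exists_smul_eq X (R0.mapSurjective hcb) R0
  have hmapR : ∀ z ∈ R, (w : G) * x * z * ((w : G) * x)⁻¹ ∈ R := by
    rintro _ ⟨z, hz, rfl⟩
    refine ⟨w * c z * w⁻¹, ?_, by simp [c, mul_assoc]⟩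
    rw [SetLike.mem_coe, ← hw, Sylow.coe_subgroup_smul, Sylow.coe_mapSurjective]
    exact ⟨c z, ⟨z, hz, rfl⟩, by simp⟩
  set n := (w : G) * x with hn
  have hnN : n ∈ Subgroup.normalizer (R : Set G) := by
    have h : R.map (MulAut.conj n).toMonoidHom = R := Subgroup.eq_of_le_of_card_ge
      (by rintro _ ⟨z, hz, rfl⟩; exact hmapR z hz)
      (Subgroup.card_map_of_injective (MulAut.conj n).injective).ge
    rw [Subgroup.mem_normalizer_iff]
    intro z
    refine ⟨hmapR z, fun hz => ?_⟩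
    rw [← h] at hz
    obtain ⟨z', hz', he⟩ := hz
    rwa [← (MulAut.conj n).injective (he : MulAut.conj n z' = MulAut.conj n z)]
  -- correct the image inside `R`
  obtain ⟨i, hi⟩ := Subgroup.mem_zpowers_iff.1 (Subgroup.mem_comap.1 w.2.2)
  obtain ⟨ρ, hρ, hρs⟩ := hsR
  refine ⟨(ρ ^ i)⁻¹ * n, M.mul_mem (M.inv_mem (hRM (zpow_mem hρ i))) (M.mul_mem w.2.1 hx),
    mul_mem (inv_mem (Subgroup.le_normalizer (zpow_mem hρ i))) hnN, ?_⟩
  rw [map_mul, map_inv, map_zpow, hρs, hn, map_mul, ← hi, inv_mul_cancel_left]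

/-- An involution of a normal 2-subgroup normalising a subgroup of odd prime-power order commutes
with it. -/
theorem commute_of_normalizes {G : Type u} [Group G] {E R : Subgroup G} [E.Normal]
    (hexp : ∀ x ∈ E, x * x = 1) {r : ℕ} [Fact r.Prime] (hr : r ≠ 2) (hR : IsPGroup r R)
    {e : G} (he : e ∈ E) (hn : e ∈ Subgroup.normalizer (R : Set G)) {x : G} (hx : x ∈ R) :
    e * x = x * e := by
  set c := e * x * e⁻¹ * x⁻¹ with hc
  have h1 : c ∈ R := R.mul_mem ((Subgroup.mem_normalizer_iff.1 hn x).1 hx) (R.inv_mem hx)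
  have h2 : c ∈ E := by
    rw [hc, show e * x * e⁻¹ * x⁻¹ = e * (x * e⁻¹ * x⁻¹) by group]
    exact E.mul_mem he (Subgroup.Normal.conj_mem inferInstance _ (E.inv_mem he) x)
  obtain ⟨k, hk⟩ := hR ⟨c, h1⟩
  have h3 : c ^ r ^ k = 1 := congrArg Subtype.val hk
  obtain ⟨i, hi⟩ := ((Fact.out : r.Prime).odd_of_ne_two hr).pow (n := k)
  rw [hi, pow_succ, pow_mul, sq, hexp c h2, one_pow, one_mul] at h3
  rw [hc, mul_inv_eq_one, mul_inv_eq_iff_eq_mul] at h3
  exact h3

/-- The plane automorphism of order three. -/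
def rot : (Fin 2 → ZMod 2) ≃ₗ[ZMod 2] (Fin 2 → ZMod 2) where
  toFun v := ![v 1, v 0 + v 1]
  invFun v := ![v 0 + v 1, v 0]
  left_inv := by decide
  right_inv := by decide
  map_add' := by decide
  map_smul' := by decide

/-- The plane swap. -/
def flp : (Fin 2 → ZMod 2) ≃ₗ[ZMod 2] (Fin 2 → ZMod 2) where
  toFun v := ![v 1, v 0]
  invFun v := ![v 1, v 0]
  left_inv := by decide
  right_inv := by decide
  map_add' := by decide
  map_smul' := by decide

theorem rot_facts : (∀ v, rot (rot (rot v)) = v) ∧ (∀ v, flp (rot v) = rot (rot (flp v))) ∧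
    (∀ v, flp (flp v) = v) ∧ (∀ v, rot v = v → v = 0) ∧ rot ![1, 0] ≠ ![1, 0] ∧
      flp ![1, 0] ≠ ![1, 0] := by
  decide

/-- No extension of a 2-group by `GL(a, 2)`, `a ≥ 5` odd, has all involutions in the module. -/
theorem large_false {G : Type u} [Group G] [Finite G] {W : Type v} [AddCommGroup W]
    [Module (ZMod 2) W] [Finite W] {a : ℕ} (hW : finrank (ZMod 2) W = a) (ha : 5 ≤ a)
    (hodd : Odd a) (Φ : G →* (W ≃ₗ[ZMod 2] W)) (hΦ : Function.Surjective Φ) {E : Subgroup G}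
    [E.Normal] (hexp : ∀ x ∈ E, x * x = 1) (hinv : ∀ x : G, x * x = 1 → x ∈ E) (e : E → W)
    (heinj : Function.Injective e) (he1 : e 1 = 0)
    (hequiv : ∀ g (x : E), e (MulAut.conjNormal g x) = Φ g (e x)) : False := by
  classical
  haveI : Fact (Nat.Prime 2) := ⟨Nat.prime_two⟩
  let F := GaloisField 2 (a - 2)
  have hF : Nat.card F = 2 ^ (a - 2) := GaloisField.card 2 _ (by omega)
  set N := 2 ^ (a - 2) - 1 with hN
  have hN1 : N ≠ 1 := by
    have : 2 ^ 3 ≤ 2 ^ (a - 2) := Nat.pow_le_pow_right (by norm_num) (by omega)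
    omega
  set r := N.minFac with hrdef
  have hr : r.Prime := Nat.minFac_prime hN1
  haveI : Fact r.Prime := ⟨hr⟩
  haveI : Fact (Nat.Prime 3) := ⟨Nat.prime_three⟩
  have hrN : r ∣ N := Nat.minFac_dvd N
  have hr2 : r ≠ 2 := fun h => by
    have h1 : Odd N := Nat.Even.sub_odd Nat.one_le_two_pow
      ((Nat.even_pow).2 ⟨even_two, by omega⟩) odd_one
    rw [h] at hrN
    exact Nat.not_even_iff_odd.2 h1 (even_iff_two_dvd.2 hrN)
  obtain ⟨ζ, hζ⟩ := exists_prime_orderOf_dvd_card' (G := Fˣ) r (by rw [Nat.card_units, hF]; exact hrN)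
  let mul0 : Fˣ →* (((Fin 2 → ZMod 2) × F) ≃ₗ[ZMod 2] ((Fin 2 → ZMod 2) × F)) :=
    { toFun := fun z =>
        { toFun := fun x => (x.1, (z : F) * x.2)
          invFun := fun x => (x.1, ((z⁻¹ : Fˣ) : F) * x.2)
          left_inv := fun x => by simp
          right_inv := fun x => by simp
          map_add' := fun x y => by simp [mul_add]
          map_smul' := fun c x => by simp }
      map_one' := LinearEquiv.ext fun x => by simp
      map_mul' := fun z z' => LinearEquiv.ext fun x => by simp [mul_assoc] }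
  obtain ⟨e0⟩ : Nonempty (W ≃ₗ[ZMod 2] (Fin 2 → ZMod 2) × F) := by
    refine FiniteDimensional.nonempty_linearEquiv_of_finrank_eq ?_
    rw [hW, Module.finrank_prod, Module.finrank_fin_fun, GaloisField.finrank 2 (by omega)]
    omega
  let conj : (W ≃ₗ[ZMod 2] W) →*
      (((Fin 2 → ZMod 2) × F) ≃ₗ[ZMod 2] ((Fin 2 → ZMod 2) × F)) :=
    { toFun := fun L => e0.symm.trans (L.trans e0)
      map_one' := LinearEquiv.ext fun x => by simp
      map_mul' := fun L L' => LinearEquiv.ext fun x => by simp }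
  set Ψ := conj.comp Φ with hΨ
  have hΨs : Function.Surjective Ψ := fun L => by
    obtain ⟨g, hg⟩ := hΦ (e0.trans (L.trans e0.symm))
    exact ⟨g, LinearEquiv.ext fun x => by simp [hΨ, conj, hg]⟩
  set σ := mul0 ζ with hσ
  set ω : ((Fin 2 → ZMod 2) × F) ≃ₗ[ZMod 2] ((Fin 2 → ZMod 2) × F) :=
    rot.prodCongr (LinearEquiv.refl _ _) with hω
  set h : ((Fin 2 → ZMod 2) × F) ≃ₗ[ZMod 2] ((Fin 2 → ZMod 2) × F) :=
    flp.prodCongr (LinearEquiv.refl _ _) with hh
  obtain ⟨f3, fh, f2, ffix, fne, fne'⟩ := rot_facts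
  have hσr : orderOf σ = r := by
    rw [hσ, orderOf_injective mul0 ?_, hζ]
    intro z z' hzz
    have := congrArg (fun L => (L ((0 : Fin 2 → ZMod 2), (1 : F))).2) hzz
    exact Units.ext (by simpa [mul0] using this)
  have hω3 : orderOf ω = 3 := by
    refine orderOf_eq_prime (LinearEquiv.ext fun x => ?_) fun e1 => fne ?_
    · rw [pow_three]; simp [hω, f3]
    · have := congrArg (fun L => (L ((![1, 0] : Fin 2 → ZMod 2), (0 : F))).1) e1
      simpa [hω] using this
  have hh2 : orderOf h = 2 := by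
    refine orderOf_eq_prime (LinearEquiv.ext fun x => ?_) fun e1 => fne' ?_
    · rw [sq]; simp [hh, f2]
    · have := congrArg (fun L => (L ((![1, 0] : Fin 2 → ZMod 2), (0 : F))).1) e1
      simpa [hh] using this
  have hσω : ω * σ = σ * ω := LinearEquiv.ext fun x => by simp [hσ, hω, mul0]
  have hσh : h * σ = σ * h := LinearEquiv.ext fun x => by simp [hσ, hh, mul0]
  have hhω : h * ω = ω ^ 2 * h := LinearEquiv.ext fun x => by simp [hω, hh, sq, fh]
  -- normalisers of Sylow subgroups over `σ` and `ω`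
  obtain ⟨R, -, hRp, hσR, hR⟩ := lift_normalizer Ψ ⊤ σ hσr (by
    rw [Subgroup.map_top_of_surjective Ψ hΨs]; trivial)
  have hget : ∀ L, L * σ = σ * L → ∃ n ∈ Subgroup.normalizer (R : Set G), Ψ n = L := by
    intro L hL
    obtain ⟨g, rfl⟩ := hΨs L
    obtain ⟨n, -, hn, hnL⟩ := hR g trivial (by
      rw [hL, mul_inv_cancel_right]; exact Subgroup.mem_zpowers σ)
    exact ⟨n, hn, hnL⟩
  obtain ⟨nω, hnω, hnω'⟩ := hget ω hσω
  obtain ⟨nh, hnh, hnh'⟩ := hget h hσh
  obtain ⟨R3, hR3M, hR3p, hωR3, hR3⟩ := lift_normalizer Ψ (Subgroup.normalizer (R : Set G)) ω hω3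
    ⟨nω, hnω, hnω'⟩
  obtain ⟨n, hnR, hnR3, hnh2⟩ := hR3 nh hnh (by
    rw [hnh', hhω, mul_inv_cancel_right]
    exact pow_mem (Subgroup.mem_zpowers ω) 2)
  rw [hnh'] at hnh2
  -- an involution commuting with both
  obtain ⟨d, hd⟩ : 2 ∣ orderOf n := hh2 ▸ hnh2 ▸ orderOf_map_dvd Ψ n
  set x := n ^ d with hx
  have hxx : x * x = 1 := by rw [hx, ← pow_add, ← two_mul, ← hd, pow_orderOf_eq_one]
  have hx1 : x ≠ 1 := fun e1 => by
    have hle := orderOf_le_of_pow_eq_one (by
      rcases Nat.eq_zero_or_pos d with hd0 | hd0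
      · rw [hd0, mul_zero] at hd; exact absurd hd (orderOf_pos n).ne'
      · exact hd0) e1
    have := orderOf_pos n
    omega
  have hxE := hinv x hxx
  set v := e0 (e ⟨x, hxE⟩) with hv
  have hfix : ∀ g, g * x = x * g → Ψ g v = v := by
    intro g hg
    simp only [hΨ, hv, MonoidHom.comp_apply, conj, MonoidHom.coe_mk, OneHom.coe_mk,
      LinearEquiv.trans_apply, LinearEquiv.symm_apply_apply, ← hequiv]
    congr 2
    exact Subtype.ext (by rw [MulAut.conjNormal_apply, hg, mul_inv_cancel_right])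
  obtain ⟨rs, hrs, hrs'⟩ := hσR
  obtain ⟨rw3, hrw, hrw'⟩ := hωR3
  have h1 := hfix rs (commute_of_normalizes hexp hr2 hRp hxE (pow_mem hnR d) hrs).symm
  have h2 := hfix rw3 (commute_of_normalizes hexp (by norm_num) hR3p hxE (pow_mem hnR3 d) hrw).symm
  rw [hrs'] at h1
  rw [hrw'] at h2
  have hv1 : v.1 = 0 := ffix _ (by have := congrArg Prod.fst h2; simpa [hω] using this)
  have hv2 : v.2 = 0 := by
    have h := congrArg Prod.snd h1
    simp only [hσ, mul0, MonoidHom.coe_mk, OneHom.coe_mk, LinearEquiv.coe_mk, LinearMap.coe_mk,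
      AddHom.coe_mk] at h
    by_contra hne
    have : (ζ : F) = 1 := mul_right_cancel₀ hne (by rw [h, one_mul])
    rw [Units.val_eq_one.1 this, orderOf_one] at hζ
    exact hr.ne_one hζ.symm
  have hv0 : v = 0 := Prod.ext hv1 hv2
  rw [hv, LinearEquiv.map_eq_zero_iff, ← he1] at hv0
  exact hx1 (congrArg Subtype.val (heinj hv0))

end Cfsg.Agent.Pyramidal
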