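import Cfsg.Agent.Lib.Pyramidal.Mersenne
import Cfsg.Agent.Lib.SolvableTwo.Basic
import Cfsg.Agent.Lib.Solvable.Basic
import Cfsg.Agent.Lib.FixLadder.Reduce
import Cfsg.Agent.Lib.AbelianPComplement.NormalFour
import Cfsg.Agent.Lib.CharInt.Kazarin
import Cfsg.Agent.Lib.CharInt.Burnside

/-!
# Groups with one class of involutions of odd prime power size

If the involutions of a finite group form one class of size `p ^ k`, with `k` odd or `p ^ k = 9`,
the group is solvable.
-/

set_option autoImplicit false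
set_option linter.style.haveILetI false

namespace Cfsg.Agent.Pyramidal

universe u

/-- The involutions. -/
def invSet (G : Type u) [Group G] : Set G := {x | x * x = 1 ∧ x ≠ 1}

theorem mem_invSet {G : Type u} [Group G] {x : G} : x ∈ invSet G ↔ x * x = 1 ∧ x ≠ 1 := Iff.rfl

/-- One class of involutions. -/
def OneClass (G : Type u) [Group G] : Prop :=
  ∀ x ∈ invSet G, ∀ y ∈ invSet G, ∃ g : G, g * x * g⁻¹ = y

variable {G : Type u} [Group G] [Finite G]

theorem pow_card_eq {N : Subgroup G} {z : G} (hz : z ∈ N) : z ^ Nat.card N = 1 :=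
  congrArg Subtype.val (pow_card_eq_one' (x := (⟨z, hz⟩ : N)))

theorem not_mem_odd {N : Subgroup G} (hodd : Odd (Nat.card N)) {x : G} (hx : x ∈ invSet G) :
    x ∉ N := fun hxN => by
  obtain ⟨i, hi⟩ := hodd
  have h1 := pow_card_eq hxN
  rw [hi, pow_succ, pow_mul, sq, hx.1, one_pow, one_mul] at h1
  exact hx.2 h1

/-- Involutions modulo a normal subgroup of odd order. -/
theorem quot_count (N : Subgroup G) [N.Normal] (hodd : Odd (Nat.card N)) (h1c : OneClass G)
    {t : G} (ht : t ∈ invSet G) :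
    OneClass (G ⧸ N) ∧ QuotientGroup.mk' N t ∈ invSet (G ⧸ N) ∧
      (invSet G).ncard = (invSet (G ⧸ N)).ncard * {f : G | f ∈ N ∧ t * f * t = f⁻¹}.ncard := by
  classical
  set π := QuotientGroup.mk' N with hπ
  have hmap : ∀ x ∈ invSet G, π x ∈ invSet (G ⧸ N) := fun x hx =>
    ⟨by rw [← map_mul, hx.1, map_one], fun h => not_mem_odd hodd hx ((QuotientGroup.eq_one_iff x).1 h)⟩
  have hsurj : ∀ y ∈ invSet (G ⧸ N), ∃ x ∈ invSet G, π x = y := by
    intro y hy
    obtain ⟨x, rfl⟩ := QuotientGroup.mk'_surjective N y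
    have hx' : x * x ∈ N := (QuotientGroup.eq_one_iff _).1 (by
      have := hy.1; rw [← map_mul] at this; exact this)
    have hπx : π (x ^ Nat.card N) = π x := by
      obtain ⟨i, hi⟩ := hodd
      rw [hi, pow_succ, pow_mul, sq, map_mul, map_pow,
        show π (x * x) = 1 from (QuotientGroup.eq_one_iff _).2 hx', one_pow, one_mul]
    refine ⟨x ^ Nat.card N, ⟨?_, fun h => hy.2 ?_⟩, hπx⟩
    · rw [← pow_add, ← two_mul, pow_mul, sq]; exact pow_card_eq hx'
    · rw [← hπx, h, map_one]
  have hcl : OneClass (G ⧸ N) := by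
    intro x hx y hy
    obtain ⟨x', hx', rfl⟩ := hsurj x hx
    obtain ⟨y', hy', rfl⟩ := hsurj y hy
    obtain ⟨g, hg⟩ := h1c x' hx' y' hy'
    exact ⟨π g, by rw [← map_mul, ← map_inv, ← map_mul, hg]⟩
  refine ⟨hcl, hmap t ht, ?_⟩
  letI := Fintype.ofFinite G
  letI := Fintype.ofFinite (G ⧸ N)
  rw [Set.ncard_eq_toFinset_card', Set.ncard_eq_toFinset_card', Set.ncard_eq_toFinset_card',
    Finset.card_eq_sum_card_fiberwise (f := π) (t := (invSet (G ⧸ N)).toFinset)
      (fun x hx => by simpa using hmap x (by simpa using hx))]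
  refine Finset.sum_const_nat fun y hy => ?_
  obtain ⟨x, hx, rfl⟩ := hsurj y (by simpa using hy)
  obtain ⟨g, rfl⟩ := h1c t ht x hx
  refine (Finset.card_bij (fun f _ => g * (t * f) * g⁻¹) ?_ ?_ ?_).symm
  · intro f hf
    simp only [Set.mem_toFinset, Set.mem_setOf_eq] at hf
    have htf : t * f ∈ invSet G := by
      refine ⟨?_, fun h => not_mem_odd hodd ht ?_⟩
      · rw [← mul_assoc, hf.2, inv_mul_cancel]
      · rw [show t = f⁻¹ by rw [eq_inv_iff_mul_eq_one]; exact h]; exact N.inv_mem hf.1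
    have hπf : π f = 1 := (QuotientGroup.eq_one_iff f).2 hf.1
    simp only [Finset.mem_filter, Set.mem_toFinset, mem_invSet]
    refine ⟨⟨?_, fun h => htf.2 ?_⟩, by simp only [map_mul, map_inv, hπf, mul_one]⟩
    · calc g * (t * f) * g⁻¹ * (g * (t * f) * g⁻¹) = g * (t * f * (t * f)) * g⁻¹ := by group
        _ = 1 := by rw [htf.1, mul_one, mul_inv_cancel]
    · rwa [mul_inv_eq_one, mul_eq_left] at h
  · intro f _ f' _ h
    simpa using h
  · intro x' hx'
    simp only [Finset.mem_filter, Set.mem_toFinset] at hx'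
    obtain ⟨hx', hπx⟩ := hx'
    have hi : t⁻¹ = t := inv_eq_of_mul_eq_one_right ht.1
    refine ⟨t * (g⁻¹ * x' * g), ?_, ?_⟩
    · simp only [Set.mem_toFinset, Set.mem_setOf_eq]
      refine ⟨(QuotientGroup.eq_one_iff _).1 ?_, ?_⟩
      · change π _ = 1
        rw [map_mul, map_mul, map_mul, hπx, map_mul, map_mul, map_inv, ← map_inv]
        rw [← map_mul, ← map_mul, ← map_mul, ← map_mul, ← map_mul,
          show t * (g⁻¹ * (g * t * g⁻¹) * g) = t * t by group, ht.1, map_one]
      · have hxi : x'⁻¹ = x' := inv_eq_of_mul_eq_one_right hx'.1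
        simp only [mul_inv_rev, inv_inv, hxi, hi, mul_assoc]
        rw [← mul_assoc t t, ht.1, one_mul]
    · rw [← mul_assoc t t, ht.1, one_mul]; group

theorem solvable_of_odd {N : Subgroup G} (hodd : Odd (Nat.card N)) : Group.IsSolvable N :=
  Cfsg.Agent.S0205.result hodd

theorem solvable_of_quot (N : Subgroup G) [N.Normal] (hN : Group.IsSolvable N)
    (hQ : Group.IsSolvable (G ⧸ N)) : Group.IsSolvable G := by
  haveI := hN
  haveI := hQ
  exact solvable_of_ker_le_range N.subtype (QuotientGroup.mk' N)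
    (by rw [QuotientGroup.ker_mk', Subgroup.range_subtype])

/-- With trivial odd core the number of involutions is one, or the group is solvable. -/
theorem core_free_case {p j : ℕ} (hp : p.Prime) (hp2 : p ≠ 2)
    (hfree : ∀ M : Subgroup G, M.Normal → Odd (Nat.card M) → M = ⊥) (h1c : OneClass G) {t : G}
    (ht : t ∈ invSet G) (hs : Group.IsSolvable (Subgroup.normalClosure ({t} : Set G)))
    (hc : (invSet G).ncard = p ^ j) : j = 0 ∨ Group.IsSolvable G := by
  classical
  have hL : Subgroup.normalClosure ({t} : Set G) ≠ ⊥ := fun h => ht.2 (by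
    have : t ∈ Subgroup.normalClosure ({t} : Set G) := Subgroup.subset_normalClosure rfl
    rwa [h, Subgroup.mem_bot] at this)
  obtain ⟨N, hNn, hNle, hNne, hmin⟩ := Solvable.exists_minimal_normal hL
  haveI := hNn
  haveI := hs
  haveI : Group.IsSolvable N := solvable_of_solvable_injective (f := Subgroup.inclusion hNle)
    (Subgroup.inclusion_injective hNle)
  haveI := Solvable.isMulCommutative_of_minimal inferInstance hNne hmin
  obtain ⟨r, hr, hrx, hrp⟩ := Solvable.exists_prime_of_minimal hNne hmin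
  haveI : Fact r.Prime := ⟨hr⟩
  obtain ⟨a, ha⟩ := hrp.exists_card_eq
  have hr2 : r = 2 := by
    by_contra h
    exact hNne (hfree N hNn (ha ▸ (hr.odd_of_ne_two h).pow))
  subst hr2
  obtain ⟨⟨z, hz⟩, hz1⟩ := Subgroup.ne_bot_iff_exists_ne_one.1 hNne
  have hzi : z ∈ invSet G := ⟨by rw [← sq]; exact hrx z hz, fun h => hz1 (Subtype.ext h)⟩
  have hall : invSet G = (N : Set G) \ {1} := by
    ext x
    constructor
    · intro hx
      obtain ⟨g, rfl⟩ := h1c z hzi x hx
      exact ⟨hNn.conj_mem z hz g, hx.2⟩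
    · rintro ⟨hx, hx1⟩
      exact ⟨by rw [← sq]; exact hrx x hx, hx1⟩
  have hcard : p ^ j = 2 ^ a - 1 := by
    rw [← hc, hall, Set.ncard_diff_singleton_of_mem N.one_mem, ← Nat.card_coe_set_eq, ← ha]
    rfl
  rcases Nat.lt_or_ge a 2 with h | h
  · left
    have : p ^ j ≤ 1 := by
      rw [hcard]; interval_cases a <;> simp
    by_contra hj
    have := Nat.one_lt_pow hj hp.one_lt
    omega
  · right
    have hj := AbelianPComplement.eq_one_of_two_pow (i := j) (hp.odd_of_ne_two hp2)
      (by have := hp.two_le; omega) h (by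
        rw [hcard, Nat.sub_add_cancel Nat.one_le_two_pow])
    subst hj
    rw [pow_one] at hcard
    exact Cfg.isSolvable (E := N) (a := a)
      { normal := hNn
        exp := fun x hx => by rw [← sq]; exact hrx x hx
        inv := fun x hx => by
          by_cases h1 : x = 1
          · rw [h1]; exact N.one_mem
          · exact ((Set.ext_iff.1 hall x).1 ⟨hx, h1⟩).1
        card := ha
        two_le := h
        prime := hcard ▸ hp
        trans := fun x hx hx1 y hy hy1 =>
          h1c x ⟨by rw [← sq]; exact hrx x hx, hx1⟩ y ⟨by rw [← sq]; exact hrx y hy, hy1⟩ }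

/-- A perfect group has no non-trivial solvable image. -/
theorem perfect_image {D : Type*} [Group D] (hD : _root_.commutator D = ⊤) {M : Type*} [Group M]
    (f : D →* M) (hs : Group.IsSolvable f.range) : ∀ d, f d = 1 := by
  intro d
  have htop : ∀ n, derivedSeries D n = ⊤ := by
    intro n
    induction n with
    | zero => rfl
    | succ n ih => rw [derivedSeries_succ, ih]; exact hD
  obtain ⟨n, hn⟩ := hs.solvable
  have h1 := map_derivedSeries_eq (f := f.rangeRestrict) f.rangeRestrict_surjective n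
  rw [hn, htop] at h1
  have h2 : f.rangeRestrict d ∈ (⊤ : Subgroup D).map f.rangeRestrict := ⟨d, trivial, rfl⟩
  rw [h1, Subgroup.mem_bot] at h2
  exact congrArg Subtype.val h2

/-- The centraliser of an involution with a non-solvable centraliser containing no other
involution acts with determinant one on the elements it inverts. -/
theorem inverted_even {p i : ℕ} [Fact p.Prime] (hp2 : p ≠ 2) {t : G} (ht : t ∈ invSet G)
    (D : Subgroup G) (hD : ⁅D, D⁆ = D) (htD : t ∈ D) (hDt : ∀ d ∈ D, d * t = t * d)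
    (I : Subgroup G) (hcomm : ∀ x ∈ I, ∀ y ∈ I, x * y = y * x) (hexp : ∀ x ∈ I, x ^ p = 1)
    (hcard : Nat.card I = p ^ i) (hconj : ∀ d ∈ D, ∀ x ∈ I, d * x * d⁻¹ ∈ I)
    (hinvt : ∀ x ∈ I, t * x * t⁻¹ = x⁻¹) (hi0 : i ≠ 0) : Even i ∧ (p = 3 → i ≠ 2) := by
  classical
  letI : CommGroup I :=
    { (inferInstance : Group I) with mul_comm := fun x y => Subtype.ext (hcomm x x.2 y y.2) }
  haveI iM : Module (ZMod p) (Additive I) := AddCommGroup.zmodModule fun v => by
    apply Additive.toMul.injective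
    rw [toMul_nsmul, toMul_zero]
    exact Subtype.ext (hexp _ v.toMul.2)
  set V := Additive I
  have hfin : Module.finrank (ZMod p) V = i := by
    have h1 := Module.natCard_eq_pow_finrank (K := ZMod p) (V := V)
    rw [Nat.card_zmod, Nat.card_congr Additive.toMul, hcard] at h1
    exact (Nat.pow_right_injective (Fact.out : p.Prime).two_le h1).symm
  let cj : D → MulAut I := fun d =>
    { toFun := fun x => ⟨d * x * (d : G)⁻¹, hconj d d.2 x x.2⟩
      invFun := fun x => ⟨(d : G)⁻¹ * x * d, by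
        simpa using hconj _ (D.inv_mem d.2) x x.2⟩
      left_inv := fun x => Subtype.ext (by simp [mul_assoc])
      right_inv := fun x => Subtype.ext (by simp [mul_assoc])
      map_mul' := fun x y => Subtype.ext (by simp [mul_assoc]) }
  let ρ : D →* (V ≃ₗ[ZMod p] V) :=
    { toFun := fun d => (MulEquiv.toAdditive (cj d) : V ≃+ V).toLinearEquiv fun r x => by
        rw [← ZMod.natCast_zmod_val r, Nat.cast_smul_eq_nsmul, Nat.cast_smul_eq_nsmul, map_nsmul]
      map_one' := LinearEquiv.ext fun x => by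
        refine Additive.toMul.injective (Subtype.ext ?_)
        change (1 : G) * ((x.toMul : I) : G) * (1 : G)⁻¹ = _
        rw [one_mul, inv_one, mul_one]; rfl
      map_mul' := fun d d' => LinearEquiv.ext fun x => by
        refine Additive.toMul.injective (Subtype.ext ?_)
        change (d : G) * d' * ((x.toMul : I) : G) * ((d : G) * d')⁻¹ =
          (d : G) * (d' * ((x.toMul : I) : G) * (d' : G)⁻¹) * (d : G)⁻¹
        group }
  have hperf : _root_.commutator D = ⊤ := by
    apply Subgroup.map_injective D.subtype_injective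
    rw [Subgroup.map_subtype_commutator, hD, ← MonoidHom.range_eq_map, Subgroup.range_subtype]
  have htneg : ∀ x, ρ ⟨t, htD⟩ x = -x := fun x => by
    refine Additive.toMul.injective (Subtype.ext ?_)
    change t * ((x.toMul : I) : G) * t⁻¹ = _
    rw [hinvt _ x.toMul.2]; rfl
  constructor
  · have h1 : LinearEquiv.det (ρ ⟨t, htD⟩) = 1 :=
      MonoidHom.mem_ker.1 (Abelianization.commutator_subset_ker (LinearEquiv.det.comp ρ)
        (hperf.symm ▸ Subgroup.mem_top (⟨t, htD⟩ : D)))
    have h2 : LinearMap.det (ρ ⟨t, htD⟩ : V →ₗ[ZMod p] V) = (-1) ^ i := by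
      rw [show (ρ ⟨t, htD⟩ : V →ₗ[ZMod p] V) = (-1 : ZMod p) • LinearMap.id from
        LinearMap.ext fun x => by simp [htneg], LinearMap.det_smul, LinearMap.det_id, mul_one, hfin]
    rw [← LinearEquiv.coe_det, h1, Units.val_one] at h2
    by_contra hodd
    rw [(Nat.not_even_iff_odd.1 hodd).neg_one_pow, eq_neg_iff_add_eq_zero, one_add_one_eq_two] at h2
    exact hp2 ((Nat.prime_dvd_prime_iff_eq (Fact.out) Nat.prime_two).1
      ((ZMod.natCast_eq_zero_iff 2 p).1 (by exact_mod_cast h2)))
  · rintro rfl hi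
    subst hi
    have h48 : Nat.card (V ≃ₗ[ZMod 3] V) = 2 ^ 4 * 3 ^ 1 := by
      let b := Module.finBasisOfFinrankEq _ _ hfin
      rw [← Nat.card_congr (LinearMap.GeneralLinearGroup.generalLinearEquiv (ZMod 3) V).toEquiv,
        Nat.card_congr (Units.mapEquiv (LinearMap.toMatrixAlgEquiv b).toMulEquiv).toEquiv,
        Matrix.card_GL_field, Fin.prod_univ_two, ZMod.card]
      rfl
    have hs : Group.IsSolvable ρ.range := by
      have hd : Nat.card ρ.range ∣ 2 ^ 4 * 3 ^ 1 := h48 ▸ Subgroup.card_subgroup_dvd_card _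
      obtain ⟨d1, d2, h1, h2, h12⟩ := Nat.dvd_mul.1 hd
      obtain ⟨x, -, rfl⟩ := (Nat.dvd_prime_pow Nat.prime_two).1 h1
      obtain ⟨y, -, rfl⟩ := (Nat.dvd_prime_pow Nat.prime_three).1 h2
      haveI : Finite ρ.range := Finite.of_surjective ρ.rangeRestrict ρ.rangeRestrict_surjective
      exact CharInt.isSolvable_of_card_eq Nat.prime_two Nat.prime_three h12.symm
    have h1 := perfect_image hperf ρ hs ⟨t, htD⟩
    have hne : I ≠ ⊥ := fun h => by
      rw [h, Subgroup.card_bot] at hcard
      norm_num at hcard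
    obtain ⟨⟨x, hx⟩, hx1⟩ := Subgroup.ne_bot_iff_exists_ne_one.1 hne
    have h3 := htneg (Additive.ofMul ⟨x, hx⟩)
    rw [h1] at h3
    have h4 : x = x⁻¹ := congrArg (fun u : V => ((u.toMul : I) : G)) h3
    have h5 : x * x = 1 := by rw [← mul_inv_cancel x, ← h4]
    have h6 := hexp x hx
    rw [pow_succ, sq, h5, one_mul] at h6
    exact hx1 (Subtype.ext h6)

theorem pow_eq_nine {p k : ℕ} (hp : p.Prime) (h : p ^ k = 9) : p = 3 ∧ k = 2 := by
  have hk : k ≠ 0 := fun e => by subst e; simp at h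
  have h3 : p = 3 := (Nat.prime_dvd_prime_iff_eq hp Nat.prime_three).1
    (hp.dvd_of_dvd_pow (show p ∣ 3 ^ 2 by norm_num; exact h ▸ dvd_pow_self p hk))
  subst h3
  exact ⟨rfl, Nat.pow_right_injective (show 2 ≤ 3 by norm_num) (show 3 ^ k = 3 ^ 2 by rw [h])⟩

/-- The main theorem, by induction. -/
theorem solvable_aux : ∀ n : ℕ, ∀ (G : Type u) [Group G] [Finite G] (p k : ℕ), Nat.card G = n →
    p.Prime → p ≠ 2 → (Odd k ∨ p ^ k = 9) → (invSet G).ncard = p ^ k → OneClass G →
    Group.IsSolvable G := by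
  intro n
  induction n using Nat.strong_induction_on with
  | _ n ih =>
  intro G _ _ p k hn hp hp2 hk hc h1c
  subst hn
  classical
  haveI : Fact p.Prime := ⟨hp⟩
  obtain ⟨t, ht⟩ : (invSet G).Nonempty := by
    rw [← Set.ncard_pos, hc]; exact pow_pos hp.pos k
  by_contra hns
  -- the normal closure of an involution
  have hL : Group.IsSolvable (Subgroup.normalClosure ({t} : Set G)) := by
    refine CharInt.isSolvable_normalClosure_of_class_prime_pow (Nat.card G) le_rfl t hp ⟨k, ?_⟩
    rw [← hc, Subgroup.centralizer_eq_comap_stabilizer]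
    refine (Subgroup.index_comap_of_surjective _ (f := (ConjAct.toConjAct : G ≃* ConjAct G).toMonoidHom)
      ConjAct.toConjAct.surjective).trans ?_
    rw [MulAction.index_stabilizer]
    congr 1
    ext x
    rw [ConjAct.mem_orbit_conjAct, isConj_comm, isConj_iff]
    constructor
    · rintro ⟨g, rfl⟩
      refine ⟨?_, fun h => ht.2 ?_⟩
      · calc g * t * g⁻¹ * (g * t * g⁻¹) = g * (t * t) * g⁻¹ := by group
          _ = 1 := by rw [ht.1, mul_one, mul_inv_cancel]
      · rwa [mul_inv_eq_one, mul_eq_left] at h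
    · intro hx; exact h1c t ht x hx
  -- modulo the odd core
  set F := Cfsg.oddCore G with hF
  haveI hFn : F.Normal := SolvableTwo.oddCore_normal
  have hFodd : Odd (Nat.card F) := SolvableTwo.odd_card_oddCore
  obtain ⟨hclF, htF, hcountF⟩ := quot_count F hFodd h1c ht
  set π := QuotientGroup.mk' F with hπ
  obtain ⟨j, -, hj⟩ := (Nat.dvd_prime_pow hp).1 (hc ▸ Dvd.intro _ hcountF.symm)
  have hLbar : Group.IsSolvable (Subgroup.normalClosure ({π t} : Set (G ⧸ F))) := by
    rw [← Set.image_singleton, ← Subgroup.map_normalClosure _ π (QuotientGroup.mk'_surjective F)]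
    haveI := hL
    exact solvable_of_surjective (MonoidHom.subgroupMap_surjective π _)
  rcases core_free_case hp hp2 (fun M hM ho => SolvableTwo.eq_bot_of_odd_normal F hF M hM ho)
    hclF htF hLbar hj with hj0 | hs
  swap
  · exact hns (solvable_of_quot F (solvable_of_odd hFodd) hs)
  rw [hj0, pow_zero] at hj
  obtain ⟨z, hz⟩ := Set.ncard_eq_one.1 hj
  -- the centraliser of `t`
  have huniq : ∀ s ∈ invSet G, π s = π t := fun s hs => by
    obtain ⟨g, rfl⟩ := h1c t ht s hs
    have h1 : π (g * t * g⁻¹) ∈ invSet (G ⧸ F) := (quot_count F hFodd h1c hs).2.1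
    have h2 := htF
    rw [hz] at h1 h2
    exact h1.trans h2.symm
  have hi : t⁻¹ = t := inv_eq_of_mul_eq_one_right ht.1
  have hsu : ∀ s ∈ invSet G, s * t = t * s → s = t := by
    intro s hs hst
    by_contra hne
    have hmem : s * t ∈ F := by
      rw [← QuotientGroup.eq_one_iff]
      change π (s * t) = 1
      rw [map_mul, huniq s hs, ← map_mul, ht.1, map_one]
    refine not_mem_odd hFodd (x := s * t) ⟨?_, fun h => hne ?_⟩ hmem
    · calc s * t * (s * t) = s * (t * s) * t := by group
        _ = (s * s) * (t * t) := by rw [← hst]; group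
        _ = 1 := by rw [hs.1, ht.1, one_mul]
    · rw [← inv_eq_of_mul_eq_one_left h, hi]
  set C := Subgroup.centralizer ({t} : Set G) with hC
  have hcover : ∀ g : G, ∃ c ∈ C, π c = π g := by
    intro g
    have hs : g * t * g⁻¹ ∈ invSet G := by
      refine ⟨?_, fun h => ht.2 ?_⟩
      · calc g * t * g⁻¹ * (g * t * g⁻¹) = g * (t * t) * g⁻¹ := by group
          _ = 1 := by rw [ht.1, mul_one, mul_inv_cancel]
      · rwa [mul_inv_eq_one, mul_eq_left] at h
    set f := t * (g * t * g⁻¹) with hf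
    have hfF : f ∈ F := by
      rw [← QuotientGroup.eq_one_iff]
      change π f = 1
      rw [hf, map_mul, huniq _ hs, ← map_mul, ht.1, map_one]
    have hsf : g * t * g⁻¹ = t * f := by rw [hf, ← mul_assoc, ht.1, one_mul]
    have hinvf : t * f * t = f⁻¹ := by
      rw [eq_inv_iff_mul_eq_one]
      have := hs.1; rw [hsf] at this; rwa [← mul_assoc] at this
    obtain ⟨m, hm⟩ := hFodd
    set y := f ^ (m + 1) with hy
    have hy2 : y * y = f := by
      rw [hy, ← pow_add, show m + 1 + (m + 1) = Nat.card F + 1 by omega, pow_succ,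
        pow_card_eq hfF, one_mul]
    have hty : t * y * t = y⁻¹ := by
      have : t * y * t⁻¹ = (t * f * t⁻¹) ^ (m + 1) := by rw [hy, conj_pow]
      rw [hi, hinvf, inv_pow] at this
      exact this
    refine ⟨y * g, Subgroup.mem_centralizer_singleton_iff.2 ?_, ?_⟩
    · have h1 : y * g * t * (y * g)⁻¹ = t := by
        calc y * g * t * (y * g)⁻¹ = y * (g * t * g⁻¹) * y⁻¹ := by group
          _ = y * t * (y * y) * y⁻¹ := by rw [hsf, hy2]; group
          _ = y * (t * y * t) * t := by rw [show y * t * (y * y) * y⁻¹ = y * (t * y) by group, mul_assoc y (t * y * t) t, mul_assoc (t * y) t t, ht.1, mul_one]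
          _ = t := by rw [hty, mul_inv_cancel, one_mul]
      rw [← mul_inv_eq_iff_eq_mul]; exact h1
    · rw [map_mul, show π y = 1 from (QuotientGroup.eq_one_iff y).2 (pow_mem hfF _), one_mul]
  have hCns : ¬ Group.IsSolvable C := fun hs => hns (by
    refine solvable_of_quot F (solvable_of_odd hFodd) ?_
    haveI := hs
    exact solvable_of_surjective (f := π.comp C.subtype) fun x => by
      obtain ⟨g, rfl⟩ := QuotientGroup.mk'_surjective F x
      obtain ⟨c, hc, hcg⟩ := hcover g
      exact ⟨⟨c, hc⟩, hcg⟩)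
  obtain ⟨D, hDC, hD, hDns⟩ := Lib.FixLadder.exists_perfect_le C hCns
  have hDt : ∀ d ∈ D, d * t = t * d := fun d hd => Subgroup.mem_centralizer_singleton_iff.1 (hDC hd)
  have htD : t ∈ D := by
    have heven : 2 ∣ Nat.card D := by
      by_contra h
      exact hDns (solvable_of_odd (Nat.not_even_iff_odd.1 fun he => h he.two_dvd))
    haveI : Fact (Nat.Prime 2) := ⟨Nat.prime_two⟩
    obtain ⟨s, hs⟩ := exists_prime_orderOf_dvd_card' 2 heven
    have hs2 : (s : G) ∈ invSet G := by
      refine ⟨?_, fun h => ?_⟩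
      · rw [← sq, ← hs, ← Subgroup.orderOf_coe, pow_orderOf_eq_one]
      · rw [← Subgroup.orderOf_coe, h, orderOf_one] at hs
        exact absurd hs (by norm_num)
    rw [← hsu s hs2 (hDt s s.2)]; exact s.2
  -- a minimal normal subgroup of odd order
  have hFne : F ≠ ⊥ := by
    intro hbot
    have h1 : {f : G | f ∈ F ∧ t * f * t = f⁻¹} = {1} := by
      ext f
      simp only [Set.mem_setOf_eq, Set.mem_singleton_iff, hbot, Subgroup.mem_bot]
      exact ⟨fun h => h.1, fun h => ⟨h, by rw [h, mul_one, ht.1, inv_one]⟩⟩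
    rw [hj, h1, Set.ncard_singleton, mul_one, hc] at hcountF
    rcases hk with hk | hk
    · have := Nat.one_lt_pow hk.pos.ne' hp.one_lt
      omega
    · omega
  obtain ⟨N, hNn, hNle, hNne, hmin⟩ := Solvable.exists_minimal_normal hFne
  haveI := hNn
  haveI hNs : Group.IsSolvable N :=
    solvable_of_odd (hFodd.of_dvd_nat (Subgroup.card_dvd_of_le hNle))
  haveI := Solvable.isMulCommutative_of_minimal hNs hNne hmin
  obtain ⟨r, hr, hrx, hrp⟩ := Solvable.exists_prime_of_minimal hNne hmin
  have hNodd : Odd (Nat.card N) := hFodd.of_dvd_nat (Subgroup.card_dvd_of_le hNle)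
  have hNc : ∀ x ∈ N, ∀ y ∈ N, x * y = y * x := fun x hx y hy =>
    congrArg Subtype.val (mul_comm' (⟨x, hx⟩ : N) ⟨y, hy⟩)
  obtain ⟨hclN, -, hcount⟩ := quot_count N hNodd h1c ht
  let I : Subgroup G :=
    { carrier := {f | f ∈ N ∧ t * f * t = f⁻¹}
      one_mem' := ⟨N.one_mem, by rw [mul_one, ht.1, inv_one]⟩
      mul_mem' := fun {x y} hx hy => ⟨N.mul_mem hx.1 hy.1, by
        calc t * (x * y) * t = (t * x * t⁻¹) * (t * y * t) := by group
          _ = x⁻¹ * y⁻¹ := by rw [hi, hx.2, hy.2]
          _ = (x * y)⁻¹ := by rw [← mul_inv_rev, hNc y hy.1 x hx.1]⟩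
      inv_mem' := fun {x} hx => ⟨N.inv_mem hx.1, by
        have := congrArg Inv.inv hx.2
        simp only [mul_inv_rev, hi] at this
        rw [mul_assoc]; exact this⟩ }
  have hI : {f : G | f ∈ N ∧ t * f * t = f⁻¹}.ncard = Nat.card I :=
    (Nat.card_coe_set_eq _).symm
  rw [hI, hc] at hcount
  obtain ⟨i, hik, hIi⟩ := (Nat.dvd_prime_pow hp).1 (Dvd.intro_left _ hcount.symm)
  rw [hIi] at hcount
  have hq : (invSet (G ⧸ N)).ncard = p ^ (k - i) := by
    rw [← Nat.sub_add_cancel hik, pow_add] at hcount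
    exact (Nat.eq_of_mul_eq_mul_right (pow_pos hp.pos i) hcount).symm
  have hk' : Odd (k - i) ∨ p ^ (k - i) = 9 := by
    by_cases hi0 : i = 0
    · subst hi0; rwa [Nat.sub_zero]
    have hne : I ≠ ⊥ := fun h => by
      rw [h, Subgroup.card_bot] at hIi
      have := Nat.one_lt_pow hi0 hp.one_lt
      omega
    have hpr : r = p := by
      obtain ⟨⟨x, hx⟩, hx1⟩ := Subgroup.ne_bot_iff_exists_ne_one.1 hne
      haveI : Fact r.Prime := ⟨hr⟩
      have h1 : orderOf x = r := orderOf_eq_prime (hrx x hx.1) fun h => hx1 (Subtype.ext h)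
      have h2 : r ∣ p ^ i := by
        rw [← h1, ← hIi]; exact Subgroup.orderOf_dvd_natCard I hx
      exact (Nat.prime_dvd_prime_iff_eq hr hp).1 (hr.dvd_of_dvd_pow h2)
    obtain ⟨heven, h32⟩ := inverted_even hp2 ht D hD htD hDt I
      (fun x hx y hy => hNc x hx.1 y hy.1) (fun x hx => hpr ▸ hrx x hx.1) hIi
      (fun d hd x hx => ⟨hNn.conj_mem x hx.1 d, by
        calc t * (d * x * d⁻¹) * t = t * d * x * (d⁻¹ * t) := by group
          _ = d * t * x * (t * d⁻¹) := by
              rw [← hDt d hd, hDt d⁻¹ (D.inv_mem hd)]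
          _ = d * (t * x * t) * d⁻¹ := by group
          _ = (d * x * d⁻¹)⁻¹ := by rw [hx.2]; group⟩)
      (fun x hx => by rw [hi]; exact hx.2) hi0
    rcases hk with hk | hk
    · exact Or.inl (Nat.Odd.sub_even hik hk heven)
    · exfalso
      obtain ⟨h3, h2⟩ := pow_eq_nine hp hk
      obtain ⟨e, he⟩ := heven
      exact h32 h3 (by omega)
  have hlt : Nat.card (G ⧸ N) < Nat.card G := by
    rw [N.card_eq_card_quotient_mul_card_subgroup]
    exact lt_mul_right Nat.card_pos ((Subgroup.one_lt_card_iff_ne_bot N).2 hNne)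
  exact hns (solvable_of_quot N hNs (ih _ hlt (G ⧸ N) p (k - i) rfl hp hp2 hk' hq hclN))

/-- The solvability half of the classification of pyramidal groups. -/
theorem isSolvable_pyramidal (G : Type u) [Group G] [Finite G] {p k : ℕ} (hp : p.Prime) (hp2 : p ≠ 2)
    (hk : Odd k ∨ p ^ k = 9) (hc : Nat.card {x : G // orderOf x = 2} = p ^ k)
    (h1c : ∀ x y : G, orderOf x = 2 → orderOf y = 2 → ∃ g : G, g * x * g⁻¹ = y) :
    Group.IsSolvable G := by
  haveI : Fact (Nat.Prime 2) := ⟨Nat.prime_two⟩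
  have h2 : ∀ x : G, orderOf x = 2 ↔ x ∈ invSet G := fun x => by
    rw [orderOf_eq_prime_iff, sq]; rfl
  refine solvable_aux _ G p k rfl hp hp2 hk ?_ fun x hx y hy => h1c x y ((h2 x).2 hx) ((h2 y).2 hy)
  rw [← hc, ← Nat.card_coe_set_eq]
  exact Nat.card_congr (Equiv.subtypeEquivRight fun x => (h2 x).symm)

end Cfsg.Agent.Pyramidal
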