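import Cfsg.Agent.Lib.Pyramidal.GL32Quad
import Cfsg.Agent.Lib.HigmanTransitive.Main
import Cfsg.Agent.Lib.L32Radical.Setup

/-!
# Extensions of a 2-group by `GL₃(2)` with few involutions

If all involutions lie in a normal subgroup on which `GL₃(2)` acts naturally there is a
contradiction.
-/

set_option autoImplicit false
set_option linter.style.haveILetI false

namespace Cfsg.Agent.Pyramidal

open Module Cfsg.Agent.CamKan
open Cfsg.Agent.L32Radical (Nat3 GL32 ac va vb vc gu ge gt ac_mul ac_one ac_add ac_zero)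

theorem gs_trans : ∀ v w : Nat3, v ≠ 0 → w ≠ 0 → ∃ i ∈ List.range 7, ac (gs ^ i) v = w := by
  decide +kernel

theorem lift_basis : ∀ z : Fin 3 → ZMod 2, z 0 • vc + z 1 • ac gu vc + z 2 • ac ge vc = 0 → z = 0 := by
  decide

theorem lift_span : ∀ v : Nat3, ∃ z : Fin 3 → ZMod 2,
    z 0 • vc + z 1 • ac gu vc + z 2 • ac ge vc = v := by
  decide +kernel

theorem ge_gt_ne : ge * gt ≠ gt * ge := by decide

theorem basis_ne : va ≠ 0 ∧ vb ≠ 0 ∧ vc ≠ 0 ∧ va ≠ vb := by decide

/-- A homomorphism of `GL₃(2)` into a commutative group is trivial. -/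
theorem gl32_perfect {M : Type*} [CommMonoid M] (δ : GL32 →* Mˣ) (g : GL32) : δ g = 1 := by
  haveI := A8Sub.isSimpleGroup_GL_three
  rcases (inferInstance : δ.ker.Normal).eq_bot_or_eq_top with h | h
  · exact absurd ((MonoidHom.ker_eq_bot_iff δ).1 h (by rw [map_mul, map_mul, mul_comm])) ge_gt_ne
  · exact MonoidHom.mem_ker.1 (h ▸ Subgroup.mem_top g)

universe u

variable {G : Type u} [Group G] [Finite G]

/-- The abelian case. -/
theorem small_abelian {E : Subgroup G} [E.Normal] (Φ : G →* GL32) (hΦ : Function.Surjective Φ)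
    (hT : IsPGroup 2 Φ.ker) (hinv : ∀ x : G, x * x = 1 → x ∈ E) (hexp : ∀ x ∈ E, x * x = 1)
    (hEC : E ≤ Φ.ker) (e : E ≃ Nat3) (hadd : ∀ x y, e (x * y) = e x + e y)
    (hequiv : ∀ g (x : E), e (MulAut.conjNormal g x) = ac (Φ g) (e x))
    (hab : ∀ x ∈ Φ.ker, ∀ y ∈ Φ.ker, x * y = y * x) : False := by
  classical
  haveI : Fact (Nat.Prime 2) := ⟨Nat.prime_two⟩
  obtain ⟨y, hy⟩ := hΦ gu
  have he1 : e 1 = 0 := by
    have := hadd 1 1
    rw [mul_one] at this
    exact left_eq_add.1 this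
  -- exponent of the kernel
  have hex : ∃ j, ∀ x ∈ Φ.ker, x ^ 2 ^ j = 1 := by
    obtain ⟨n, hn⟩ := hT.exists_card_eq
    refine ⟨n, fun x hx => ?_⟩
    rw [← hn]
    exact congrArg Subtype.val (pow_card_eq_one' (x := (⟨x, hx⟩ : Φ.ker)))
  set j := Nat.find hex with hj
  have hjs := Nat.find_spec hex
  obtain ⟨m, hm⟩ : ∃ m, j = m + 1 := by
    rcases Nat.eq_zero_or_eq_succ_pred j with h | h
    · exfalso
      have h1 := hjs _ (hEC (e.symm va).2)
      rw [← hj, h, pow_zero, pow_one] at h1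
      have h2 : e (e.symm va) = e 1 := congrArg e (Subtype.ext h1)
      rw [e.apply_symm_apply, he1] at h2
      exact L32Radical.values.1 h2
    · exact ⟨_, h⟩
  rw [← hj, hm] at hjs
  obtain ⟨x₁, hx₁, hx₁'⟩ : ∃ x ∈ Φ.ker, x ^ 2 ^ m ≠ 1 := by
    by_contra hc; push Not at hc
    have := Nat.find_min' hex hc
    omega
  have hpE : ∀ x ∈ Φ.ker, x ^ 2 ^ m ∈ E := fun x hx => hinv _ (by
    rw [← pow_add, ← two_mul, ← pow_succ']; exact hjs x hx)
  -- `t` whose power is `vc`
  obtain ⟨t, htK, ht⟩ : ∃ t, ∃ ht : t ∈ Φ.ker, e ⟨t ^ 2 ^ m, hpE t ht⟩ = vc := by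
    set w := e ⟨_, hpE x₁ hx₁⟩ with hw
    have hw0 : w ≠ 0 := fun h0 => hx₁' (congrArg Subtype.val (e.injective (h0.trans he1.symm)))
    obtain ⟨g0, -, hg0⟩ := List.mem_map.1 (L32Radical.exists_map_a w hw0)
    obtain ⟨g1, hg1⟩ := L32Radical.exists_ac_a basis_ne.2.2.1
    obtain ⟨g, hg⟩ := hΦ (g1 * g0⁻¹)
    refine ⟨g * x₁ * g⁻¹, (MonoidHom.normal_ker Φ).conj_mem _ hx₁ g, ?_⟩
    have := hequiv g ⟨_, hpE x₁ hx₁⟩
    rw [← hw, hg, ← hg0, ← ac_mul, inv_mul_cancel_right, hg1] at this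
    refine Eq.trans (congrArg e (Subtype.ext ?_)) this
    rw [MulAut.conjNormal_apply]
    exact conj_pow
  -- the module
  letI : CommGroup Φ.ker :=
    { (inferInstance : Group Φ.ker) with mul_comm := fun a b => Subtype.ext (hab a a.2 b b.2) }
  haveI iM : Module (ZMod (2 ^ (m + 1))) (Additive Φ.ker) := AddCommGroup.zmodModule fun v => by
    apply Additive.toMul.injective
    rw [toMul_nsmul, toMul_zero]
    exact Subtype.ext (hjs _ v.toMul.2)
  set R := ZMod (2 ^ (m + 1))
  set A := Additive Φ.ker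
  haveI : NeZero (2 ^ (m + 1)) := ⟨by positivity⟩
  let ρA : G →* (A ≃ₗ[R] A) :=
    { toFun := fun g => (MulEquiv.toAdditive (MulAut.conjNormal g : MulAut Φ.ker)).toLinearEquiv
        fun r x => by
          rw [← ZMod.natCast_zmod_val r, Nat.cast_smul_eq_nsmul, Nat.cast_smul_eq_nsmul, map_nsmul]
      map_one' := LinearEquiv.ext fun x => by
        change Additive.ofMul ((MulAut.conjNormal (1 : G) : MulAut Φ.ker) x.toMul) = x
        rw [map_one]; rfl
      map_mul' := fun g h => LinearEquiv.ext fun x => by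
        apply Additive.toMul.injective; apply Subtype.ext
        change ((MulAut.conjNormal (g * h) x.toMul : Φ.ker) : G) =
          MulAut.conjNormal g (MulAut.conjNormal h x.toMul)
        rw [map_mul]; rfl }
  have hρ : ∀ g (x : A), (((ρA g x).toMul : Φ.ker) : G) = g * ((x.toMul : Φ.ker) : G) * g⁻¹ :=
    fun g x => rfl
  let δ : GL32 →* Rˣ := MonoidHom.liftOfSurjective Φ hΦ
    ⟨LinearEquiv.det.comp ρA, fun g hg => by
      rw [MonoidHom.mem_ker, MonoidHom.comp_apply, show ρA g = 1 from LinearEquiv.ext fun x => by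
        apply Additive.toMul.injective; apply Subtype.ext
        rw [hρ, hab g hg _ x.toMul.2, mul_inv_cancel_right]; rfl, map_one]⟩
  have hdet : LinearEquiv.det (ρA y) = 1 := by
    have := gl32_perfect δ gu
    rw [← hy] at this
    exact (MonoidHom.liftOfRightInverse_comp_apply _ _ _ _ y).symm.trans this
  -- the basis
  set b0 : A := Additive.ofMul ⟨t, htK⟩ with hb0
  set b1 : A := ρA y b0 with hb1
  set b2 : A := ρA y b1 with hb2
  let ψ : (Fin 3 → R) →ₗ[R] A :=
    (LinearMap.proj 0).smulRight b0 + (LinearMap.proj 1).smulRight b1 +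
      (LinearMap.proj 2).smulRight b2
  have hψ : ∀ z, ψ z = z 0 • b0 + z 1 • b1 + z 2 • b2 := fun z => rfl
  let ev : A → Nat3 := fun x => e ⟨((x.toMul : Φ.ker) : G) ^ 2 ^ m, hpE _ x.toMul.2⟩
  have hev : ∀ x x', ev (x + x') = ev x + ev x' := fun x x' => by
    simp only [ev]
    rw [← hadd]
    refine congrArg e (Subtype.ext ?_)
    exact (show Commute _ _ from hab _ x.toMul.2 _ x'.toMul.2).mul_pow _
  let evL : A →+ Nat3 := AddMonoidHom.mk' ev hev
  have hevs : ∀ (r : R) x, ev (r • x) = (r.val : ZMod 2) • ev x := fun r x => by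
    rw [← ZMod.natCast_zmod_val r, Nat.cast_smul_eq_nsmul, ZMod.natCast_zmod_val, Nat.cast_smul_eq_nsmul]
    exact map_nsmul evL _ _
  have hev0 : ∀ x, ev x = 0 → 2 ^ m • x = 0 := fun x hx => by
    apply Additive.toMul.injective
    rw [toMul_nsmul, toMul_zero]
    exact Subtype.ext (congrArg (fun u : E => (u : G)) (e.injective (hx.trans he1.symm)))
  have hevρ : ∀ g x, ev (ρA g x) = ac (Φ g) (ev x) := fun g x => by
    simp only [ev, ← hequiv]
    refine congrArg e (Subtype.ext ?_)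
    rw [MulAut.conjNormal_apply]
    change (((ρA g x).toMul : Φ.ker) : G) ^ 2 ^ m = g * ((x.toMul : Φ.ker) : G) ^ 2 ^ m * g⁻¹
    rw [hρ, conj_pow]
  have hevb : ev b0 = vc ∧ ev b1 = ac gu vc ∧ ev b2 = ac ge vc := by
    have h0 : ev b0 = vc := ht
    refine ⟨h0, by rw [hb1, hevρ, hy, h0], ?_⟩
    rw [hb2, hevρ, hb1, hevρ, hy, h0, ← ac_mul, L32Radical.gu_facts.1]
  have hevψ : ∀ z, ev (ψ z) = ((z 0).val : ZMod 2) • vc + ((z 1).val : ZMod 2) • ac gu vc +
      ((z 2).val : ZMod 2) • ac ge vc := fun z => by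
    rw [hψ, hev, hev, hevs, hevs, hevs, hevb.1, hevb.2.1, hevb.2.2]
  have heven : ∀ z, 2 ^ m • ψ z = 0 → ∃ z' : Fin 3 → R, z = 2 • z' := by
    intro z hz
    have h0 : ev (ψ z) = 0 := by
      simp only [ev]
      rw [← he1]
      refine congrArg e (Subtype.ext ?_)
      exact congrArg (fun u : A => ((u.toMul : Φ.ker) : G)) hz
    rw [hevψ] at h0
    have h1 := lift_basis (fun i => ((z i).val : ZMod 2)) h0
    refine ⟨fun i => (((z i).val / 2 : ℕ) : R), funext fun i => ?_⟩
    have h2 : 2 ∣ (z i).val := (ZMod.natCast_eq_zero_iff _ _).1 (congrFun h1 i)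
    rw [Pi.smul_apply, nsmul_eq_mul, ← Nat.cast_mul, Nat.mul_div_cancel' h2, ZMod.natCast_zmod_val]
  have hinj : Function.Injective ψ := by
    rw [injective_iff_map_eq_zero]
    intro z hz
    have key : ∀ i ≤ m + 1, ∃ z' : Fin 3 → R, z = 2 ^ i • z' := by
      intro i
      induction i with
      | zero => exact fun _ => ⟨z, by simp⟩
      | succ i ih =>
        intro hi
        obtain ⟨z', rfl⟩ := ih (by omega)
        obtain ⟨z'', rfl⟩ := heven z' (by
          obtain ⟨d, hd⟩ := Nat.exists_eq_add_of_le (show i ≤ m by omega)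
          rw [show (2 : ℕ) ^ m = 2 ^ d * 2 ^ i by rw [← pow_add, add_comm, ← hd], mul_smul, ← map_nsmul, hz, smul_zero])
        exact ⟨z'', by rw [← mul_smul, ← pow_succ]⟩
    obtain ⟨z', rfl⟩ := key (m + 1) le_rfl
    funext i
    rw [Pi.smul_apply, nsmul_eq_mul, ZMod.natCast_self, zero_mul, Pi.zero_apply]
  have hsurj : Function.Surjective ψ := by
    have key : ∀ i x, 2 ^ i • x = 0 → ∃ z, ψ z = x := by
      intro i
      induction i with
      | zero => intro x hx; exact ⟨0, by rw [map_zero, ← hx, pow_zero, one_smul]⟩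
      | succ i ih =>
        intro x hx
        obtain ⟨z, hz⟩ := ih (2 • x) (by rw [← mul_smul, ← pow_succ]; exact hx)
        obtain ⟨z', rfl⟩ := heven z (by
          rw [hz, ← mul_smul, ← pow_succ]
          apply Additive.toMul.injective
          rw [toMul_nsmul, toMul_zero]
          exact Subtype.ext (hjs _ x.toMul.2))
        rw [map_nsmul] at hz
        set d := x - ψ z' with hd
        have hd2 : (2 : ℕ) • d = 0 := by rw [hd, smul_sub, hz, sub_self]
        have hdE : ((d.toMul : Φ.ker) : G) ∈ E := hinv _ (by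
          rw [← sq]
          exact congrArg (fun u : A => ((u.toMul : Φ.ker) : G)) hd2)
        obtain ⟨c, hc⟩ := lift_span (e ⟨_, hdE⟩)
        let zc : Fin 3 → R := fun i => ((c i).val : R)
        have hcv : ∀ i, (((zc i).val : ℕ) : ZMod 2) = c i := fun i => by
          simp only [zc]
          rw [ZMod.val_natCast_of_lt (lt_of_lt_of_le (ZMod.val_lt _)
            (Nat.le_self_pow (by omega) 2)), ZMod.natCast_zmod_val]
        have hdz : 2 ^ m • ψ zc = d := by
          have h1 : ev (ψ zc) = e ⟨_, hdE⟩ := by rw [hevψ, hcv, hcv, hcv]; exact hc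
          apply Additive.toMul.injective
          rw [toMul_nsmul]
          exact Subtype.ext (congrArg (fun u : E => (u : G)) (e.injective h1))
        exact ⟨z' + 2 ^ m • zc, by rw [map_add, map_nsmul, hdz, hd, add_sub_cancel]⟩
    intro x
    refine key (m + 1) x ?_
    apply Additive.toMul.injective
    rw [toMul_nsmul, toMul_zero]
    exact Subtype.ext (hjs _ x.toMul.2)
  let B : Basis (Fin 3) R A := Basis.ofEquivFun (LinearEquiv.ofBijective ψ ⟨hinj, hsurj⟩).symm
  have hB : ∀ i, B i = ![b0, b1, b2] i := fun i => by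
    rw [Basis.coe_ofEquivFun]
    change ψ (Pi.single i 1) = _
    rw [hψ]
    fin_cases i <;> simp
  have hrepr : ∀ z i, B.repr (ψ z) i = z i := fun z i => by
    rw [Basis.ofEquivFun_repr_apply, show ψ z = LinearEquiv.ofBijective ψ ⟨hinj, hsurj⟩ z from rfl,
      LinearEquiv.symm_apply_apply]
  obtain ⟨α, hα⟩ := hsurj (ρA y b2)
  have hb2ψ : b2 = ψ ![0, 0, 1] := by rw [hψ]; simp
  have hb1ψ : b1 = ψ ![0, 1, 0] := by rw [hψ]; simp
  have hb0ψ : b0 = ψ ![1, 0, 0] := by rw [hψ]; simp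
  have hdet' : α 0 = 1 := by
    have h1 : LinearMap.det (ρA y : A →ₗ[R] A) = 1 := by
      rw [← LinearEquiv.coe_det, hdet, Units.val_one]
    rw [← LinearMap.det_toMatrix B, Matrix.det_fin_three] at h1
    simp only [LinearMap.toMatrix_apply, LinearEquiv.coe_coe, hB, Matrix.cons_val_zero,
      Matrix.cons_val_one, Matrix.cons_val_two, Matrix.head_cons, Matrix.tail_cons] at h1
    rw [← hb1, ← hb2, ← hα, hb1ψ, hb2ψ] at h1
    simp only [hrepr] at h1
    simpa using h1
  have hcomp : ∀ z : Fin 3 → R, ρA y (ψ z) =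
      ψ ![z 2 * α 0, z 0 + z 2 * α 1, z 1 + z 2 * α 2] := fun z => by
    rw [hψ z, map_add, map_add, map_smul, map_smul, map_smul, ← hb1, ← hb2, ← hα, hψ, hψ]
    simp only [Matrix.cons_val_zero, Matrix.cons_val_one, Matrix.cons_val_two, Matrix.head_cons,
      Matrix.tail_cons, smul_add, add_smul, mul_smul]
    abel
  -- `y ^ 4` acts trivially
  have hy4 : y * y * (y * y) ∈ Φ.ker := by
    rw [MonoidHom.mem_ker, map_mul, map_mul, hy]; exact L32Radical.gu_facts.2.2.1
  have hu4 : ρA y (ρA y (ρA y (ρA y b0))) = b0 := by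
    apply Additive.toMul.injective; apply Subtype.ext
    rw [hρ, hρ, hρ, hρ]
    change y * (y * (y * (y * t * y⁻¹) * y⁻¹) * y⁻¹) * y⁻¹ = t
    calc y * (y * (y * (y * t * y⁻¹) * y⁻¹) * y⁻¹) * y⁻¹
        = (y * y * (y * y)) * t * (y * y * (y * y))⁻¹ := by group
      _ = t := by rw [hab _ hy4 t htK, mul_inv_cancel_right]
  rw [← hb1, ← hb2, ← hα, hcomp, hb0ψ] at hu4
  have h4 := hinj hu4
  have e0 : α 2 * α 0 = 1 := by simpa using congrFun h4 0
  have e1 : α 0 + α 2 * α 1 = 0 := by simpa using congrFun h4 1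
  rw [hdet', mul_one] at e0
  rw [hdet', e0, one_mul] at e1
  have e1' : α 1 = -1 := by linear_combination e1
  -- the fixed points
  set z4 : A := Additive.ofMul ⟨_, hy4⟩ with hz4
  obtain ⟨c, hc⟩ := hsurj z4
  have hfix : ρA y z4 = z4 := by
    apply Additive.toMul.injective; apply Subtype.ext
    rw [hρ]
    change y * (y * y * (y * y)) * y⁻¹ = y * y * (y * y)
    group
  rw [← hc, hcomp] at hfix
  have h5 := hinj hfix
  have c0 : c 2 = c 0 := by simpa [hdet'] using congrFun h5 0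
  have c1 : c 0 + c 2 * α 1 = c 1 := by simpa using congrFun h5 1
  rw [c0, e1'] at c1
  have c1' : c 1 = 0 := by linear_combination -c1
  set w := c 0 • b0 with hw
  have hwz : z4 = w + ρA y (ρA y w) := by
    rw [← hc, hψ, c1', c0, zero_smul, add_zero, hw, map_smul, map_smul]
  set W := ((w.toMul : Φ.ker) : G) with hW
  have hWz : y * y * (y * y) = W * (y * y * W * (y * y)⁻¹) := by
    have := congrArg (fun u : A => ((u.toMul : Φ.ker) : G)) hwz
    rw [show y * y * W * (y * y)⁻¹ = y * (y * W * y⁻¹) * y⁻¹ by group]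
    exact this
  have hWK : W ∈ Φ.ker := w.toMul.2
  have hkey : y * y * W⁻¹ * (y * y * W⁻¹) = 1 := by
    have hn : y * y * W * (y * y)⁻¹ ∈ Φ.ker := (MonoidHom.normal_ker Φ).conj_mem _ hWK _
    calc y * y * W⁻¹ * (y * y * W⁻¹) = (y * y * W * (y * y)⁻¹)⁻¹ * (y * y * (y * y)) * W⁻¹ := by
          simp only [mul_inv_rev, inv_inv, mul_assoc, inv_mul_cancel_left]
      _ = (y * y * W * (y * y)⁻¹)⁻¹ * (W * (y * y * W * (y * y)⁻¹)) * W⁻¹ := by rw [hWz]
      _ = 1 := by rw [hab W hWK _ hn, inv_mul_cancel_left, mul_inv_cancel]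
  have h6 := MonoidHom.mem_ker.1 (hEC (hinv _ hkey))
  rw [map_mul, map_mul, map_inv, MonoidHom.mem_ker.1 hWK, inv_one, mul_one, hy, L32Radical.gu_facts.1] at h6
  exact L32Radical.gu_facts.2.2.2 h6

/-- The theorem. -/
theorem small_false {E : Subgroup G} [E.Normal] (Φ : G →* GL32) (hΦ : Function.Surjective Φ)
    (hT : IsPGroup 2 Φ.ker) (hinv : ∀ x : G, x * x = 1 → x ∈ E) (hexp : ∀ x ∈ E, x * x = 1)
    (e : E ≃ Nat3) (hadd : ∀ x y, e (x * y) = e x + e y)
    (hequiv : ∀ g (x : E), e (MulAut.conjNormal g x) = ac (Φ g) (e x)) : False := by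
  classical
  haveI : Fact (Nat.Prime 2) := ⟨Nat.prime_two⟩
  have he1 : e 1 = 0 := by
    have := hadd 1 1
    rw [mul_one] at this
    exact left_eq_add.1 this
  have hEC : E ≤ Φ.ker := fun x hx => by
    have hi : ∀ {z}, z ∈ E → z⁻¹ = z := fun hz => inv_eq_of_mul_eq_one_right (hexp _ hz)
    have hcomm : ∀ {z w}, z ∈ E → w ∈ E → z * w = w * z := fun {z w} hz hw => by
      calc z * w = (z * w)⁻¹ := (hi (mul_mem hz hw)).symm
        _ = w * z := by rw [mul_inv_rev, hi hz, hi hw]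
    have hid : ∀ v, ac (Φ x) v = v := fun v => by
      obtain ⟨s, rfl⟩ := e.surjective v
      rw [← hequiv]
      exact congrArg e (Subtype.ext (by
        rw [MulAut.conjNormal_apply, hcomm hx s.2, mul_inv_cancel_right]))
    exact MonoidHom.mem_ker.2 (gl32_ext ((hid _).trans (ac_one _).symm) ((hid _).trans (ac_one _).symm)
      ((hid _).trans (ac_one _).symm))
  by_cases hab : ∀ x ∈ Φ.ker, ∀ y ∈ Φ.ker, x * y = y * x
  · exact small_abelian Φ hΦ hT hinv hexp hEC e hadd hequiv hab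
  set C := Φ.ker with hC
  haveI hCn : C.Normal := MonoidHom.normal_ker Φ
  set E' := E.subgroupOf C with hE'
  have hE'exp : ∀ x ∈ E', x * x = 1 := fun x hx => Subtype.ext (hexp _ hx)
  have hE'inv : ∀ x : C, x * x = 1 → x ∈ E' := fun x hx => hinv _ (congrArg Subtype.val hx)
  -- the structure of the kernel
  obtain ⟨g7, hg7⟩ := hΦ gs
  have hne : ∀ x : E, x ≠ 1 → e x ≠ 0 := fun x hx h0 => hx (e.injective (h0.trans he1.symm))
  obtain ⟨hcen, hsq, -, -⟩ := HigmanTransitive.structure_thm hT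
    (by
      push Not at hab
      obtain ⟨x, hx, y, hy, hxy⟩ := hab
      exact ⟨⟨x, hx⟩, ⟨y, hy⟩, fun h => hxy (congrArg Subtype.val h)⟩)
    ⟨⟨_, hEC (e.symm va).2⟩, ⟨_, hEC (e.symm vb).2⟩,
      fun h => basis_ne.2.2.2 (e.symm.injective
        (Subtype.ext (congrArg (fun u : C => (u : G)) h) : e.symm va = e.symm vb)),
      fun h => basis_ne.1 ((e.apply_symm_apply va).symm.trans
        ((congrArg e (Subtype.ext (congrArg (fun u : C => (u : G)) h) : e.symm va = 1)).trans he1)),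
      by rw [sq]; exact Subtype.ext (hexp _ (e.symm va).2),
      fun h => basis_ne.2.1 ((e.apply_symm_apply vb).symm.trans
        ((congrArg e (Subtype.ext (congrArg (fun u : C => (u : G)) h) : e.symm vb = 1)).trans he1)),
      by rw [sq]; exact Subtype.ext (hexp _ (e.symm vb).2)⟩
    ⟨Subgroup.zpowers (MulAut.conjNormal g7), Group.isSolvable_of_comm fun a b => by
      obtain ⟨_, i, rfl⟩ := a; obtain ⟨_, l, rfl⟩ := b
      exact Subtype.ext (((Commute.refl (MulAut.conjNormal g7 : MulAut C)).zpow_zpow i l).eq),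
    fun x y hx1 hx hy1 hy => by
      rw [sq] at hx hy
      have hxE : (x : G) ∈ E := hE'inv x hx
      have hyE : (y : G) ∈ E := hE'inv y hy
      obtain ⟨i, -, hi⟩ := gs_trans _ _ (hne ⟨_, hxE⟩ fun h => hx1 (Subtype.ext (congrArg (fun u : E => (u : G)) h)))
        (hne ⟨_, hyE⟩ fun h => hy1 (Subtype.ext (congrArg (fun u : E => (u : G)) h)))
      refine ⟨(MulAut.conjNormal g7) ^ (i : ℤ), ⟨i, rfl⟩, Subtype.ext ?_⟩
      rw [← hg7, ← map_pow, ← hequiv] at hi
      have h' := congrArg (fun u : E => (u : G)) (e.injective hi)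
      rw [zpow_natCast, ← map_pow]
      rw [MulAut.conjNormal_apply] at h' ⊢
      exact h'⟩
  have hE'cen : ∀ e' ∈ E', ∀ x : C, e' * x = x * e' := fun e' he' x =>
    ((Subgroup.mem_center_iff.1 ((hcen e').2 (hE'exp _ he'))) x).symm
  have hsqE : ∀ x : C, x * x ∈ E' := fun x => hE'inv _ ((hcen _).1 (hsq x))
  haveI hE'n : E'.Normal := inferInstance
  set π := QuotientGroup.mk' E' with hπdef
  have hπ : Function.Surjective π := QuotientGroup.mk'_surjective _
  have hQexp : ∀ v : C ⧸ E', v * v = 1 := fun v => by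
    obtain ⟨x, rfl⟩ := hπ v
    rw [← map_mul]
    exact (QuotientGroup.eq_one_iff _).2 (hsqE x)
  have hQab : ∀ v w : C ⧸ E', v * w = w * v := by
    intro v w
    have hi : ∀ z : C ⧸ E', z⁻¹ = z := fun z => inv_eq_of_mul_eq_one_right (hQexp z)
    calc v * w = (v * w)⁻¹ := (hi _).symm
      _ = w * v := by rw [mul_inv_rev, hi, hi]
  letI : CommGroup (C ⧸ E') := { (inferInstance : Group (C ⧸ E')) with mul_comm := hQab }
  letI : Module (ZMod 2) (Additive (C ⧸ E')) := AddCommGroup.zmodModule fun v => by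
    rw [two_nsmul]; exact congrArg Additive.ofMul (hQexp v.toMul)
  set V := Additive (C ⧸ E')
  -- commutators
  let kf : C → C → C := fun x y => x⁻¹ * y * x * y⁻¹
  have hkE : ∀ x y, kf x y ∈ E' := fun x y => by
    rw [← QuotientGroup.eq_one_iff]
    change π (x⁻¹ * y * x * y⁻¹) = 1
    simp only [map_mul, map_inv]
    rw [mul_assoc (π x)⁻¹, hQab (π y) (π x), inv_mul_cancel_left, mul_inv_cancel]
  have hsqmul : ∀ x y : C, x * y * (x * y) = x * x * (y * y) * kf x y := by
    intro x y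
    have h1 : x * y * (x * y) = x * x * kf x y * (y * y) := by simp only [kf]; group
    rw [h1, mul_assoc, hE'cen _ (hkE x y) (y * y), ← mul_assoc]
  have hkl : ∀ x x' y : C, kf (x * x') y = kf x y * kf x' y := by
    intro x x' y
    calc kf (x * x') y = x'⁻¹ * kf x y * y * x' * y⁻¹ := by simp only [kf]; group
      _ = kf x y * x'⁻¹ * y * x' * y⁻¹ := by rw [← hE'cen _ (hkE x y) x'⁻¹]
      _ = kf x y * kf x' y := by simp only [kf]; group
  have hkr : ∀ x y y' : C, kf x (y * y') = kf x y * kf x y' := by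
    intro x y y'
    calc kf x (y * y') = x⁻¹ * y * x * (kf x y' * y⁻¹) := by simp only [kf]; group
      _ = x⁻¹ * y * x * (y⁻¹ * kf x y') := by rw [hE'cen _ (hkE x y') y⁻¹]
      _ = kf x y * kf x y' := by simp only [kf]; group
  have hkE0 : ∀ x, ∀ e' ∈ E', kf x e' = 1 ∧ kf e' x = 1 := fun x e' he' => by
    simp only [kf]
    exact ⟨by rw [mul_assoc x⁻¹, hE'cen e' he' x, inv_mul_cancel_left, mul_inv_cancel],
      by rw [mul_assoc e'⁻¹, ← hE'cen e' he' x, inv_mul_cancel_left, mul_inv_cancel]⟩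
  let mk : ∀ x : C, x ∈ E' → Nat3 := fun x hx => e ⟨(x : G), hx⟩
  have hmk : ∀ x y hx hy hxy, mk (x * y) hxy = mk x hx + mk y hy :=
    fun x y hx hy hxy => hadd ⟨(x : G), hx⟩ ⟨(y : G), hy⟩
  have hext : ∀ x y hx hy, x = y → mk x hx = mk y hy := fun x y hx hy h => by subst h; rfl
  choose L hL using hπ
  have hlift : ∀ v x, π x = v → ∃ e' ∈ E', L v = x * e' := fun v x hx => by
    refine ⟨x⁻¹ * L v, ?_, by group⟩
    rw [← QuotientGroup.eq_one_iff]
    change π _ = 1
    rw [map_mul, map_inv, hx, hL, inv_mul_cancel]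
  let q : V → Nat3 := fun v => mk _ (hsqE (L v.toMul))
  let cf : V → V → Nat3 := fun v w => mk _ (hkE (L v.toMul) (L w.toMul))
  have hq_lift : ∀ (v : V) (x : C), π x = v.toMul → q v = mk _ (hsqE x) := by
    intro v x hx
    refine hext _ _ _ _ ?_
    obtain ⟨e', he', heq⟩ := hlift _ x hx
    rw [heq]
    calc x * e' * (x * e') = x * (e' * x) * e' := by group
      _ = x * (x * e') * e' := by rw [hE'cen e' he' x]
      _ = x * x := by rw [mul_assoc, mul_assoc, hE'exp e' he', mul_one]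
  have hkl' : ∀ v v' w : V, cf (v + v') w = cf v w + cf v' w := by
    intro v v' w
    obtain ⟨e', he', heq⟩ := hlift (v + v').toMul (L v.toMul * L v'.toMul) (by
      rw [map_mul, hL, hL]; rfl)
    rw [← hmk _ _ _ _ (mul_mem (hkE (L v.toMul) (L w.toMul)) (hkE (L v'.toMul) (L w.toMul)))]
    refine hext _ _ _ _ ?_
    rw [heq, hkl, (hkE0 _ e' he').2, mul_one, hkl]
  have hkr' : ∀ v w w' : V, cf v (w + w') = cf v w + cf v w' := by
    intro v w w'
    obtain ⟨e', he', heq⟩ := hlift (w + w').toMul (L w.toMul * L w'.toMul) (by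
      rw [map_mul, hL, hL]; rfl)
    rw [← hmk _ _ _ _ (mul_mem (hkE (L v.toMul) (L w.toMul)) (hkE (L v.toMul) (L w'.toMul)))]
    refine hext _ _ _ _ ?_
    rw [heq, hkr, (hkE0 _ e' he').1, mul_one, hkr]
  let c : V →ₗ[ZMod 2] V →ₗ[ZMod 2] Nat3 :=
    (AddMonoidHom.mk' (fun v => (AddMonoidHom.mk' (cf v) (hkr' v)).toZModLinearMap 2)
      fun v v' => LinearMap.ext fun w => hkl' v v' w).toZModLinearMap 2
  have hq : ∀ v w, q (v + w) = q v + q w + c v w := by
    intro v w
    rw [hq_lift (v + w) (L v.toMul * L w.toMul) (by rw [map_mul, hL, hL]; rfl)]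
    change _ = mk _ _ + mk _ _ + mk _ _
    rw [← hmk _ _ _ _ (mul_mem (hsqE (L v.toMul)) (hsqE (L w.toMul))),
      ← hmk _ _ _ _ (mul_mem (mul_mem (hsqE (L v.toMul)) (hsqE (L w.toMul))) (hkE (L v.toMul) (L w.toMul)))]
    exact hext _ _ _ _ (hsqmul _ _)
  have hani : ∀ v, q v = 0 → v = 0 := by
    intro v hv
    have h1 : L v.toMul * L v.toMul = 1 :=
      Subtype.ext (congrArg (fun u : E => (u : G)) (e.injective (hv.trans he1.symm)))
    apply Additive.toMul.injective
    rw [← hL v.toMul, toMul_zero]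
    exact (QuotientGroup.eq_one_iff _).2 (hE'inv _ h1)
  -- the action
  let aut : G →* MulAut (C ⧸ E') :=
    { toFun := fun g => QuotientGroup.congr E' E' (MulAut.conjNormal g) (by
        ext x
        rw [← MulEquiv.toMonoidHom_eq_coe, Subgroup.mem_map_equiv, hE', Subgroup.mem_subgroupOf, Subgroup.mem_subgroupOf,
          MulAut.conjNormal_symm_apply]
        refine ⟨fun h => ?_, fun h => ?_⟩
        · have := Subgroup.Normal.conj_mem (H := E) inferInstance _ h g
          simpa [mul_assoc] using this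
        · simpa using Subgroup.Normal.conj_mem (H := E) inferInstance _ h g⁻¹)
      map_one' := MulEquiv.ext fun v => by
        induction v using QuotientGroup.induction_on with
        | H x => exact congrArg QuotientGroup.mk (by rw [map_one]; rfl)
      map_mul' := fun g h => MulEquiv.ext fun v => by
        induction v using QuotientGroup.induction_on with
        | H x => exact congrArg QuotientGroup.mk (by rw [map_mul]; rfl) }
  let lin : MulAut (C ⧸ E') →* (V ≃ₗ[ZMod 2] V) :=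
    { toFun := fun f => (MulEquiv.toAdditive f : V ≃+ V).toLinearEquiv fun r x => by
        rcases z2 r with rfl | rfl
        · simp
        · simp
      map_one' := LinearEquiv.ext fun x => rfl
      map_mul' := fun f f' => LinearEquiv.ext fun x => rfl }
  have haut : ∀ g x, aut g (π x) = π (MulAut.conjNormal g x) := fun g x => rfl
  have hker : Φ.ker ≤ (lin.comp aut).ker := by
    intro g hg
    rw [MonoidHom.mem_ker, MonoidHom.comp_apply]
    refine LinearEquiv.ext fun v => ?_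
    apply Additive.toMul.injective
    obtain ⟨x, hx⟩ := QuotientGroup.mk'_surjective E' v.toMul
    change aut g v.toMul = v.toMul
    rw [← hx, ← hπdef, haut, show MulAut.conjNormal g x = (⟨g, hg⟩ : C) * x * (⟨g, hg⟩ : C)⁻¹ from
      Subtype.ext (by simp), map_mul, map_mul, map_inv, hQab (π _) (π x), mul_inv_cancel_right]
  let ρ : GL32 →* (V ≃ₗ[ZMod 2] V) := MonoidHom.liftOfSurjective Φ hΦ ⟨lin.comp aut, hker⟩
  have hequivq : ∀ g v, q (ρ g v) = ac g (q v) := by
    intro g v
    obtain ⟨g, rfl⟩ := hΦ g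
    rw [show ρ (Φ g) = lin (aut g) from MonoidHom.liftOfRightInverse_comp_apply _ _ _ _ g]
    rw [hq_lift _ (MulAut.conjNormal g (L v.toMul)) (by rw [← haut, hL]; rfl)]
    change _ = ac (Φ g) (e ⟨_, _⟩)
    rw [← hequiv]
    exact congrArg e (Subtype.ext (by simp [mul_assoc]))
  have hc0 := quad_comm ρ q c hq hani hequivq
  apply hab
  intro x hx y hy
  set x' : C := ⟨x, hx⟩
  set y' : C := ⟨y, hy⟩
  obtain ⟨ex, hex, hex'⟩ := hlift (π x') x' rfl
  obtain ⟨ey, hey, hey'⟩ := hlift (π y') y' rfl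
  have h1 : mk _ (hkE (L (π x')) (L (π y'))) = 0 := hc0 (Additive.ofMul (π x')) (Additive.ofMul (π y'))
  have h2 : kf (L (π x')) (L (π y')) = 1 :=
    Subtype.ext (congrArg (fun u : E => (u : G)) (e.injective (h1.trans he1.symm)))
  rw [hex', hey', hkl, hkr, hkr, (hkE0 _ ex hex).2, (hkE0 _ ey hey).1, (hkE0 ey ex hex).2,
    mul_one, mul_one, mul_one] at h2
  have h3 : x'⁻¹ * y' * x' * y'⁻¹ = 1 := h2
  rw [mul_inv_eq_one, mul_assoc, inv_mul_eq_iff_eq_mul] at h3
  exact (congrArg Subtype.val h3).symm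

end Cfsg.Agent.Pyramidal
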