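import Cfsg.Agent.Lib.Pyramidal.Kernel
import Cfsg.Agent.Lib.Pyramidal.Large
import Cfsg.Agent.Lib.Pyramidal.Small
import Cfsg.Agent.Lib.CamKan.Mersenne

/-!
# All involutions in a normal elementary abelian subgroup of Mersenne type

A finite group whose involutions are conjugate and form, with `1`, an elementary abelian subgroup
of order `2 ^ a` with `2 ^ a - 1` prime is solvable.
-/

set_option autoImplicit false
set_option linter.style.haveILetI false

namespace Cfsg.Agent.Pyramidal

open Module Cfsg.Agent.CamKan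

universe u

variable {G : Type u} [Group G] {E : Subgroup G} {a : ℕ}

namespace Cfg

/-- Coordinates of `E`, with the conjugation action. -/
theorem exists_rep [Finite G] (h : Cfg G E a) :
    haveI := h.normal
    ∃ (e : E ≃ (Fin a → ZMod 2))
      (Φ : G →* ((Fin a → ZMod 2) ≃ₗ[ZMod 2] (Fin a → ZMod 2))),
      (∀ x y, e (x * y) = e x + e y) ∧ (∀ g (x : E), e (MulAut.conjNormal g x) = Φ g (e x)) ∧
        Φ.ker = Subgroup.centralizer (E : Set G) ∧
        ∀ v w, v ≠ 0 → w ≠ 0 → ∃ L ∈ Φ.range, L v = w := by
  classical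
  haveI := h.normal
  letI : CommGroup E :=
    { (inferInstance : Group E) with mul_comm := fun v w => Subtype.ext (h.comm v.2 w.2) }
  letI : Module (ZMod 2) (Additive E) := AddCommGroup.zmodModule fun v => by
    rw [two_nsmul]; exact congrArg Additive.ofMul (Subtype.ext (h.exp _ v.toMul.2))
  have hfin : finrank (ZMod 2) (Additive E) = a := by
    have h1 := Module.natCard_eq_pow_finrank (K := ZMod 2) (V := Additive E)
    rw [Nat.card_zmod, Nat.card_congr Additive.toMul, h.card] at h1
    exact (Nat.pow_right_injective le_rfl h1).symm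
  let b : Additive E ≃ₗ[ZMod 2] (Fin a → ZMod 2) := (Module.finBasisOfFinrankEq _ _ hfin).equivFun
  let e : E ≃ (Fin a → ZMod 2) := Additive.ofMul.trans b.toEquiv
  have he : ∀ x, e x = b (Additive.ofMul x) := fun x => rfl
  have hadd : ∀ x y, e (x * y) = e x + e y := fun x y => by
    rw [he, he, he, ofMul_mul, map_add]
  let Φ : G →* ((Fin a → ZMod 2) ≃ₗ[ZMod 2] (Fin a → ZMod 2)) :=
    { toFun := fun g =>
        ((b.symm.toAddEquiv.trans (MulEquiv.toAdditive (MulAut.conjNormal g : MulAut E))).trans
          b.toAddEquiv).toLinearEquiv fun r x => by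
            rcases z2 r with rfl | rfl
            · simp only [zero_smul, map_zero]
            · simp only [one_smul]
      map_one' := LinearEquiv.ext fun v => by
        change b (Additive.ofMul ((MulAut.conjNormal (1 : G) : MulAut E) (b.symm v).toMul)) = v
        rw [map_one]; exact b.apply_symm_apply v
      map_mul' := fun g g' => LinearEquiv.ext fun v => by
        change b (Additive.ofMul ((MulAut.conjNormal (g * g') : MulAut E) (b.symm v).toMul)) =
          b (Additive.ofMul ((MulAut.conjNormal g : MulAut E) (b.symm (b (Additive.ofMul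
            ((MulAut.conjNormal g' : MulAut E) (b.symm v).toMul)))).toMul))
        rw [map_mul, b.symm_apply_apply]; rfl }
  have hequiv : ∀ g (x : E), e (MulAut.conjNormal g x) = Φ g (e x) := fun g x => by
    change b (Additive.ofMul _) = b (Additive.ofMul ((MulAut.conjNormal g : MulAut E) (b.symm (b (Additive.ofMul x))).toMul))
    rw [b.symm_apply_apply]; rfl
  refine ⟨e, Φ, hadd, hequiv, ?_, fun v w hv hw => ?_⟩
  · ext g
    rw [MonoidHom.mem_ker, Subgroup.mem_centralizer_iff]
    constructor
    · intro hg x hx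
      have := hequiv g ⟨x, hx⟩
      rw [hg] at this
      have h2 : g * x * g⁻¹ = x := congrArg (fun u : E => (u : G)) (e.injective this)
      exact (mul_inv_eq_iff_eq_mul.1 h2).symm
    · intro hg
      refine LinearEquiv.ext fun v => ?_
      obtain ⟨x, rfl⟩ := e.surjective v
      rw [← hequiv]
      exact congrArg e (Subtype.ext (by
        rw [MulAut.conjNormal_apply, ← hg x x.2, mul_inv_cancel_right]))
  · obtain ⟨x, rfl⟩ := e.surjective v
    obtain ⟨y, rfl⟩ := e.surjective w
    have he1 : e 1 = 0 := by rw [he, ofMul_one, map_zero]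
    obtain ⟨g, hg⟩ := h.trans x x.2 (fun hx => hv (by rw [show x = 1 from Subtype.ext hx, he1]))
      y y.2 (fun hy => hw (by rw [show y = 1 from Subtype.ext hy, he1]))
    exact ⟨Φ g, ⟨g, rfl⟩, by rw [← hequiv]; exact congrArg e (Subtype.ext hg)⟩

end Cfg

theorem solvable_of_smaller {G : Type u} [Group G] [Finite G] {n : Type*} [Group n]
    (Φ : G →* n) (hker : Group.IsSolvable Φ.ker) (M : Subgroup G) (hM : Group.IsSolvable M)
    (hMs : ∀ g, ∃ m ∈ M, Φ m = Φ g) : Group.IsSolvable G := by
  haveI := hker
  haveI := hM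
  haveI : Group.IsSolvable Φ.range := solvable_of_surjective (f := (Φ.rangeRestrict.comp M.subtype))
    fun ⟨_, g, hg⟩ => by
      obtain ⟨m, hm, hmg⟩ := hMs g
      exact ⟨⟨m, hm⟩, Subtype.ext (hmg.trans hg)⟩
  exact solvable_of_ker_le_range Φ.ker.subtype Φ.rangeRestrict
    (by rw [MonoidHom.ker_rangeRestrict, Subgroup.range_subtype])

theorem Cfg.isSolvable_aux : ∀ n : ℕ, ∀ (G : Type u) [Group G] [Finite G] (E : Subgroup G) (a : ℕ),
    Cfg G E a → Nat.card G = n → Group.IsSolvable G := by
  intro n
  induction n using Nat.strong_induction_on with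
  | _ n ih =>
  intro G _ _ E a h hn
  subst hn
  classical
  haveI := h.normal
  haveI : Fact (Nat.Prime 2) := ⟨Nat.prime_two⟩
  have hsC : Group.IsSolvable (Subgroup.centralizer (E : Set G)) := h.kernel_solvable
  obtain ⟨e, Φ, hadd, hequiv, hker, htr⟩ := h.exists_rep
  set C := Subgroup.centralizer (E : Set G) with hC
  haveI hCn : C.Normal := inferInstance
  have hfin : finrank (ZMod 2) (Fin a → ZMod 2) = a := Module.finrank_fin_fun _
  -- solvable images
  have hsolv : Group.IsSolvable Φ.range → Group.IsSolvable G := fun hs => by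
    haveI := hs
    haveI : Group.IsSolvable Φ.ker := hker.symm ▸ hsC
    exact solvable_of_ker_le_range Φ.ker.subtype Φ.rangeRestrict
      (by rw [MonoidHom.ker_rangeRestrict, Subgroup.range_subtype])
  have hnp : a.Prime := (Nat.prime_of_pow_sub_one_prime
    (fun e1 => by subst e1; exact Nat.not_prime_one h.prime) h.prime).2
  rcases mersenne hfin h.prime Φ.range htr with ⟨hcyc, -⟩ | ⟨hcard, N, hNle, hNn, hNc, hNcard⟩ | htop
  · exact hsolv (Group.isSolvable_of_comm fun x y => (IsCyclic.commGroup (α := Φ.range)).mul_comm x y)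
  · refine hsolv ?_
    haveI := hNn
    set N' := N.subgroupOf Φ.range
    haveI : IsCyclic N' := isCyclic_of_surjective (Subgroup.subgroupOfEquivOfLe hNle).symm.toMonoidHom
      (MulEquiv.surjective _)
    haveI : Group.IsSolvable N' := Group.isSolvable_of_comm fun x y => (IsCyclic.commGroup (α := N')).mul_comm x y
    have hq : Nat.card (Φ.range ⧸ N') = a := by
      have h1 := N'.card_eq_card_quotient_mul_card_subgroup
      rw [hcard, Nat.card_congr (Subgroup.subgroupOfEquivOfLe hNle).toEquiv, hNcard] at h1
      exact (Nat.eq_of_mul_eq_mul_right h.prime.pos h1).symm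
    haveI : Fact a.Prime := ⟨hnp⟩
    haveI : IsCyclic (Φ.range ⧸ N') := isCyclic_of_prime_card hq
    haveI : Group.IsSolvable (Φ.range ⧸ N') :=
      Group.isSolvable_of_comm fun x y => (IsCyclic.commGroup (α := Φ.range ⧸ N')).mul_comm x y
    exact solvable_of_ker_le_range N'.subtype (QuotientGroup.mk' N')
      (by rw [QuotientGroup.ker_mk', Subgroup.range_subtype])
  have hsurj : Function.Surjective Φ := MonoidHom.range_eq_top.1 htop
  by_cases ha2 : a = 2
  · refine hsolv ?_
    subst ha2
    have hd : Nat.card Φ.range ∣ 6 := by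
      have h6 : Nat.card ((Fin 2 → ZMod 2) ≃ₗ[ZMod 2] (Fin 2 → ZMod 2)) = 6 := by
        rw [card_linearEquiv, hfin, Fin.prod_univ_two]
        rfl
      exact h6 ▸ Subgroup.card_subgroup_dvd_card _
    haveI : IsZGroup Φ.range := IsZGroup.of_squarefree <|
      Squarefree.squarefree_of_dvd hd (by decide +kernel)
    infer_instance
  have ha3 : 3 ≤ a := by have := h.two_le; omega
  have haodd : Odd a := hnp.odd_of_ne_two ha2
  have hEC : E ≤ C := fun x hx => Subgroup.mem_centralizer_iff.2 fun y hy => h.comm hy hx
  by_contra hns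
  -- the centraliser is a 2-group
  have hC2 : IsPGroup 2 Φ.ker := by
    rw [hker]
    refine IsPGroup.of_card (Nat.eq_prime_pow_of_unique_prime_dvd Nat.card_pos.ne' fun {r} hr hrd => ?_)
    by_contra hr2
    haveI : Fact r.Prime := ⟨hr⟩
    obtain ⟨R⟩ : Nonempty (Sylow r C) := inferInstance
    set R' := (R : Subgroup C).map C.subtype with hR'
    have hR'p : IsPGroup r R' := R.2.map _
    set M := Subgroup.normalizer (R' : Set G) with hM
    have hMC : M ⊔ C = ⊤ := Sylow.normalizer_sup_eq_top R
    have hMs : ∀ g, ∃ m ∈ M, Φ m = Φ g := by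
      intro g
      have h1 : g ∈ M ⊔ C := by rw [hMC]; trivial
      rw [← SetLike.mem_coe, Subgroup.coe_mul_of_left_le_normalizer_right _ C
        (Subgroup.normalizer_eq_top_iff.2 hCn ▸ le_top)] at h1
      obtain ⟨m, hm, c, hc, rfl⟩ := h1
      refine ⟨m, hm, ?_⟩
      have hck : c ∈ Φ.ker := hker.symm.le hc
      rw [map_mul, MonoidHom.mem_ker.1 hck, mul_one]
    have hEM : E ≤ M := by
      intro x hx
      rw [hM, Subgroup.mem_normalizer_iff]
      intro z
      constructor
      · intro hz
        obtain ⟨z', hz', rfl⟩ := hz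
        refine ⟨z', hz', ?_⟩
        rw [Subgroup.coe_subtype, Subgroup.mem_centralizer_iff.1 z'.2 x hx, mul_inv_cancel_right]
      · intro hz
        obtain ⟨z', hz', hzz⟩ := hz
        refine ⟨z', hz', ?_⟩
        rw [Subgroup.coe_subtype] at hzz ⊢
        have hc' : x * (z' : G) = z' * x := Subgroup.mem_centralizer_iff.1 z'.2 x hx
        calc (z' : G) = x⁻¹ * (z' * x) := by rw [← hc', inv_mul_cancel_left]
          _ = z := by rw [hzz]; group
    by_cases hMtop : M = ⊤
    swap
    · apply hns
      have hlt : Nat.card M < Nat.card G :=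
        lt_of_le_of_ne (Subgroup.card_le_card_group M) fun e1 => hMtop (Subgroup.eq_top_of_card_eq M e1)
      have hcfg : Cfg M (E.subgroupOf M) a :=
        { normal := inferInstance
          exp := fun x hx => Subtype.ext (h.exp _ hx)
          inv := fun x hx => h.inv _ (congrArg Subtype.val hx)
          card := by rw [Nat.card_congr (Subgroup.subgroupOfEquivOfLe hEM).toEquiv, h.card]
          two_le := h.two_le
          prime := h.prime
          trans := fun x hx hx1 y hy hy1 => by
            obtain ⟨g, hg⟩ := h.trans _ hx (fun e1 => hx1 (Subtype.ext e1)) _ hy (fun e1 => hy1 (Subtype.ext e1))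
            obtain ⟨m, hm, hmg⟩ := hMs g
            refine ⟨⟨m, hm⟩, Subtype.ext ?_⟩
            have h1 := hequiv m ⟨_, hx⟩
            rw [hmg, ← hequiv] at h1
            have h2 := congrArg (fun u : E => (u : G)) (e.injective h1)
            simp only [MulAut.conjNormal_apply] at h2
            exact h2.trans hg }
      exact solvable_of_smaller Φ (hker.symm ▸ hsC) M (ih _ hlt M _ a hcfg rfl) hMs
    haveI hR'n : R'.Normal := Subgroup.normalizer_eq_top_iff.1 hMtop
    have hR'ne : R' ≠ ⊥ := fun e1 => R.ne_bot_of_dvd_card hrd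
      ((Subgroup.map_eq_bot_iff_of_injective _ C.subtype_injective).1 e1)
    obtain ⟨k, hk⟩ := hR'p.exists_card_eq
    have hodd : Odd (Nat.card R') := hk ▸ (hr.odd_of_ne_two hr2).pow
    have hpow : ∀ z ∈ R', z ^ Nat.card R' = 1 := fun z hz =>
      congrArg Subtype.val (pow_card_eq_one' (x := (⟨z, hz⟩ : R')))
    have hER : ∀ z ∈ E, z ∈ R' → z = 1 := by
      intro z hzE hzR
      obtain ⟨i, hi⟩ := hodd
      have h1 := hpow z hzR
      rwa [hi, pow_succ, pow_mul, sq, h.exp z hzE, one_pow, one_mul] at h1
    set π := QuotientGroup.mk' R' with hπ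
    have hπinj : ∀ z ∈ E, π z = 1 → z = 1 := fun z hz h1 =>
      hER z hz ((QuotientGroup.eq_one_iff z).1 h1)
    have hcfg : Cfg (G ⧸ R') (E.map π) a :=
      { normal := Subgroup.Normal.map inferInstance _ (QuotientGroup.mk'_surjective _)
        exp := by
          rintro _ ⟨x, hx, rfl⟩
          rw [← map_mul, h.exp x hx, map_one]
        inv := by
          intro x hx
          obtain ⟨x, rfl⟩ := QuotientGroup.mk'_surjective R' x
          rw [← map_mul] at hx
          have hx' : x * x ∈ R' := (QuotientGroup.eq_one_iff _).1 hx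
          obtain ⟨i, hi⟩ := hodd
          refine ⟨x ^ Nat.card R', h.inv _ ?_, ?_⟩
          · rw [← pow_add, ← two_mul, pow_mul, sq]; exact hpow _ hx'
          · rw [hi, pow_succ, pow_mul, sq, map_mul, map_pow,
              show π (x * x) = 1 from (QuotientGroup.eq_one_iff _).2 hx', one_pow, one_mul]
        card := by
          rw [← h.card]
          refine (Nat.card_congr (Equiv.ofBijective (fun z : E => (⟨π z, z, z.2, rfl⟩ : E.map π)) ⟨?_, ?_⟩)).symm
          · intro z w hzw
            have h1 : π z = π w := congrArg Subtype.val hzw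
            apply Subtype.ext
            have := hπinj _ (E.mul_mem (E.inv_mem z.2) w.2) (by rw [map_mul, map_inv, h1, inv_mul_cancel])
            exact inv_mul_eq_one.1 this
          · rintro ⟨_, z, hz, rfl⟩
            exact ⟨⟨z, hz⟩, rfl⟩
        two_le := h.two_le
        prime := h.prime
        trans := by
          rintro _ ⟨x, hx, rfl⟩ hx1 _ ⟨y, hy, rfl⟩ hy1
          obtain ⟨g, hg⟩ := h.trans x hx (fun e1 => hx1 (by rw [e1, map_one])) y hy
            (fun e1 => hy1 (by rw [e1, map_one]))
          exact ⟨π g, by rw [← map_mul, ← map_inv, ← map_mul, hg]⟩ }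
    have hlt : Nat.card (G ⧸ R') < Nat.card G := by
      rw [R'.card_eq_card_quotient_mul_card_subgroup]
      exact lt_mul_right Nat.card_pos ((Subgroup.one_lt_card_iff_ne_bot R').2 hR'ne)
    apply hns
    haveI := ih _ hlt (G ⧸ R') _ a hcfg rfl
    haveI : Group.IsNilpotent R' := hR'p.isNilpotent
    exact solvable_of_ker_le_range R'.subtype π
      (by rw [QuotientGroup.ker_mk', Subgroup.range_subtype])
  rcases Nat.lt_or_ge a 5 with h5 | h5
  · have ha : a = 3 := by rcases haodd with ⟨k, hk⟩; omega
    subst ha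
    let glE : L32Radical.GL32 ≃* ((Fin 3 → ZMod 2) ≃ₗ[ZMod 2] (Fin 3 → ZMod 2)) :=
      Matrix.GeneralLinearGroup.toLin.trans
        (LinearMap.GeneralLinearGroup.generalLinearEquiv (ZMod 2) (Fin 3 → ZMod 2))
    have hgl : ∀ g v, glE g v = L32Radical.ac g v := fun g v => rfl
    refine small_false (glE.symm.toMonoidHom.comp Φ) (glE.symm.surjective.comp hsurj) ?_ h.inv h.exp e
      hadd fun g x => ?_
    · rw [show (glE.symm.toMonoidHom.comp Φ).ker = Φ.ker by
        ext g; simp [MonoidHom.mem_ker]]
      exact hC2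
    · rw [hequiv, ← hgl]
      simp
  · refine large_false hfin h5 haodd Φ hsurj h.exp h.inv e e.injective ?_ hequiv
    have := hadd 1 1
    rw [mul_one] at this
    exact left_eq_add.1 this

/-- The theorem. -/
theorem Cfg.isSolvable [Finite G] (h : Cfg G E a) : Group.IsSolvable G :=
  Cfg.isSolvable_aux _ G E a h rfl

end Cfsg.Agent.Pyramidal
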