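import Cfsg.Agent.Lib.CamKan.Basic

/-!
# Anisotropic quadratic maps with transitive symmetry

A map `q : V → E` of `𝔽₂`-spaces with bilinear polar form, vanishing only at `0` and whose
symmetries are transitive on non-zero functionals of `E`, has `dim V ∈ {0, a, 2a}`; for `2a`
every form `χ ∘ c` is non-degenerate and no non-trivial isometry of odd order fixes a point.
-/

set_option autoImplicit false

namespace Cfsg.Agent.Pyramidal

open Module Cfsg.Agent.CamKan

/-- The sign character of `𝔽₂`. -/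
def eps (x : ZMod 2) : ℤ := if x = 0 then 1 else -1

theorem eps_add : ∀ x y : ZMod 2, eps (x + y) = eps x * eps y := by decide

theorem eps_sq : ∀ x : ZMod 2, eps x * eps x = 1 := by decide

theorem sum_eps {V : Type*} [AddCommGroup V] [Module (ZMod 2) V] [Fintype V] [DecidableEq V]
    (φ : Dual (ZMod 2) V) [Decidable (φ = 0)] :
    ∑ v, eps (φ v) = if φ = 0 then (Fintype.card V : ℤ) else 0 := by
  split
  · next h => simp [h, eps]
  · next h =>
    obtain ⟨u, hu⟩ := exists_eq_one h
    have h1 : ∑ v, eps (φ v) = ∑ v, eps (φ (v + u)) :=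
      (Fintype.sum_equiv (Equiv.addRight u) (fun v => eps (φ (v + u))) (fun v => eps (φ v))
        fun v => rfl).symm
    simp only [map_add, eps_add, hu, show eps (1 : ZMod 2) = -1 from rfl, mul_neg, mul_one,
      Finset.sum_neg_distrib] at h1
    omega

theorem odd_pow_sub_one {d : ℕ} (hd : 1 ≤ d) : Odd (2 ^ d - 1) :=
  Nat.Even.sub_odd Nat.one_le_two_pow ((Nat.even_pow).2 ⟨even_two, by omega⟩) odd_one

theorem eq_two_mul {n a r u : ℕ} (hn : a < n) (ha : 1 ≤ a)
    (hu : u * (2 ^ a - 1) = 2 ^ (n - a) - 1) (hsq : (2 ^ a * u) ^ 2 = 2 ^ (n + r)) :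
    n = 2 * a ∧ r = 0 := by
  have ho : Odd u := by
    have := odd_pow_sub_one (d := n - a) (by omega)
    rw [← hu] at this
    exact (Nat.odd_mul.1 this).1
  have hu1 : u = 1 := by
    have hd : u ∣ 2 ^ (n + r) := hsq ▸ dvd_pow (dvd_mul_left _ _) two_ne_zero
    obtain ⟨k, -, rfl⟩ := (Nat.dvd_prime_pow Nat.prime_two).1 hd
    rcases k with _ | k
    · rfl
    · exact absurd ho (by simp [Nat.even_pow, parity_simps])
  rw [hu1, mul_one, ← pow_mul] at hsq
  rw [hu1, one_mul] at hu
  have h1 := Nat.one_le_two_pow (n := a)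
  have h2 := Nat.one_le_two_pow (n := n - a)
  have h3 := Nat.pow_right_injective le_rfl (show 2 ^ a = 2 ^ (n - a) by omega)
  have h4 := Nat.pow_right_injective le_rfl hsq
  omega

variable {V E : Type*} [AddCommGroup V] [Module (ZMod 2) V] [Finite V]
  [AddCommGroup E] [Module (ZMod 2) E] [Finite E]

theorem dims (q : V → E) (c : V →ₗ[ZMod 2] V →ₗ[ZMod 2] E)
    (hq : ∀ v w, q (v + w) = q v + q w + c v w) (hani : ∀ v, q v = 0 → v = 0)
    (ha : 1 ≤ finrank (ZMod 2) E)
    (htr : ∀ χ χ' : Dual (ZMod 2) E, χ ≠ 0 → χ' ≠ 0 →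
      ∃ s : V ≃ V, ∀ v, χ (q (s v)) = χ' (q v)) :
    finrank (ZMod 2) V = 0 ∨ finrank (ZMod 2) V = finrank (ZMod 2) E ∨
      (finrank (ZMod 2) V = 2 * finrank (ZMod 2) E ∧
        ∀ χ : Dual (ZMod 2) E, χ ≠ 0 → ∀ v, (∀ w, χ (c v w) = 0) → v = 0) := by
  classical
  letI := Fintype.ofFinite V
  letI := Fintype.ofFinite E
  letI := Fintype.ofFinite (Dual (ZMod 2) E)
  have hq0 : q 0 = 0 := by
    have := hq 0 0
    simp only [add_zero, map_zero, LinearMap.zero_apply, vadd_self] at this
    exact this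
  set n := finrank (ZMod 2) V with hn
  set a := finrank (ZMod 2) E with hadef
  have hV : (Fintype.card V : ℤ) = 2 ^ n := by
    rw [← Nat.card_eq_fintype_card, card_pow, hn]; push_cast; rfl
  let S : Dual (ZMod 2) E → ℤ := fun χ => ∑ v, eps (χ (q v))
  -- the total
  have htot : ∑ χ, S χ = 2 ^ a := by
    simp only [S]
    rw [Finset.sum_comm]
    have : ∀ v, ∑ χ : Dual (ZMod 2) E, eps (χ (q v)) = if v = 0 then (2 : ℤ) ^ a else 0 := by
      intro v
      have h := sum_eps (Dual.eval (ZMod 2) E (q v))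
      simp only [Dual.eval_apply] at h
      rw [h]
      have hD : (Fintype.card (Dual (ZMod 2) E) : ℤ) = 2 ^ a := by
        rw [← Nat.card_eq_fintype_card, card_pow, Subspace.dual_finrank_eq, hadef]; push_cast; rfl
      by_cases hv : v = 0
      · rw [if_pos (by rw [hv, hq0, map_zero]), if_pos hv, hD]
      · rw [if_neg ?_, if_neg hv]
        intro h0
        exact hv (hani v ((Module.forall_dual_apply_eq_zero_iff (ZMod 2) (q v)).1
          fun χ => LinearMap.congr_fun h0 χ))
    rw [Finset.sum_congr rfl fun v _ => this v, Finset.sum_ite_eq' Finset.univ (0 : V)]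
    simp
  obtain ⟨x, hx⟩ : ∃ x : E, x ≠ 0 := by
    by_contra hc; push Not at hc
    haveI : Subsingleton E := ⟨fun u w => (hc u).trans (hc w).symm⟩
    have : a = 0 := finrank_zero_of_subsingleton
    omega
  obtain ⟨χ₀, -, hχ₀⟩ := exists_dual_one (⊥ : Submodule (ZMod 2) E) (v := x) (by simpa using hx)
  have hχ0 : χ₀ ≠ 0 := fun e => by simp [e] at hχ₀
  have hconst : ∀ χ, χ ≠ 0 → S χ = S χ₀ := by
    intro χ hχ
    obtain ⟨s, hs⟩ := htr χ χ₀ hχ hχ0
    exact (Fintype.sum_equiv s (fun v => eps (χ₀ (q v))) (fun v => eps (χ (q v)))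
      fun v => by rw [hs]).symm
  have hS0 : S 0 = 2 ^ n := by simp [S, eps, hV]
  have hmain : ((2 : ℤ) ^ a - 1) * S χ₀ = 2 ^ a - 2 ^ n := by
    rw [Fintype.sum_eq_add_sum_compl (0 : Dual (ZMod 2) E), hS0] at htot
    rw [Finset.sum_congr rfl fun χ hχ => hconst χ (by simpa using hχ), Finset.sum_const,
      Finset.card_compl, Finset.card_singleton, nsmul_eq_mul, Nat.cast_sub Fintype.card_pos,
      ← Nat.card_eq_fintype_card, card_pow, Subspace.dual_finrank_eq, ← hadef] at htot
    push_cast at htot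
    linarith
  by_cases hn0 : n = 0
  · exact Or.inl hn0
  refine Or.inr ?_
  have h2a : (2 : ℤ) ≤ 2 ^ a := by
    calc (2 : ℤ) = 2 ^ 1 := by norm_num
      _ ≤ 2 ^ a := pow_le_pow_right₀ (by norm_num) ha
  have h2n : (2 : ℤ) ≤ 2 ^ n := by
    calc (2 : ℤ) = 2 ^ 1 := by norm_num
      _ ≤ 2 ^ n := pow_le_pow_right₀ (by norm_num) (Nat.one_le_iff_ne_zero.2 hn0)
  rcases lt_trichotomy n a with hlt | heq | hgt
  · exfalso
    have h1 : (2 : ℤ) ^ n < 2 ^ a := pow_lt_pow_right₀ (by norm_num) hlt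
    rcases le_or_gt (S χ₀) 0 with h | h
    · nlinarith
    · nlinarith [show (1 : ℤ) ≤ S χ₀ from h]
  · exact Or.inl heq
  right
  -- the square of one sum
  have hrad : ∀ χ, χ ≠ 0 → S χ ≠ 0 ∧
      S χ * S χ = 2 ^ n * 2 ^ finrank (ZMod 2) (LinearMap.ker (c.compr₂ χ)) := by
    intro χ hχ
    have h1 : (2 : ℤ) ^ a < 2 ^ n := pow_lt_pow_right₀ (by norm_num) hgt
    have hne : S χ ≠ 0 := by
      rw [hconst χ hχ]; intro e; rw [e, mul_zero] at hmain; linarith
    refine ⟨hne, ?_⟩
    set R := LinearMap.ker (c.compr₂ χ) with hR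
    have hsq : S χ * S χ = ∑ u, eps (χ (q u)) * ∑ v, eps ((c.compr₂ χ).flip u v) := by
      simp only [S, Finset.mul_sum, Finset.sum_mul]
      rw [Finset.sum_comm]
      rw [Finset.sum_congr rfl fun v (_ : v ∈ Finset.univ) =>
        (Fintype.sum_equiv (Equiv.addLeft v) (fun u => eps (χ (q v)) * eps (χ (q (v + u))))
          (fun u => eps (χ (q v)) * eps (χ (q u))) fun u => rfl).symm]
      rw [Finset.sum_comm]
      refine Finset.sum_congr rfl fun u _ => Finset.sum_congr rfl fun v _ => ?_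
      simp only [LinearMap.flip_apply, LinearMap.compr₂_apply, hq, map_add, eps_add]
      rw [← mul_assoc, ← mul_assoc, eps_sq, one_mul]
    have hsymm : ∀ v w, c v w = c w v := by
      intro v w
      have e := hq v w
      rw [add_comm v w, hq, add_comm (q w) (q v)] at e
      exact (add_left_cancel e).symm
    have hflip : ∀ u, (c.compr₂ χ).flip u = c.compr₂ χ u := fun u => LinearMap.ext fun v => by
      simp [hsymm u v]
    simp only [hflip, sum_eps, hV] at hsq
    rw [hsq]
    simp only [mul_ite, mul_zero]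
    rw [← Finset.sum_filter, ← Finset.sum_mul, mul_comm]
    congr 1
    have hsum : ∑ u ∈ Finset.univ.filter (fun u => c.compr₂ χ u = 0), eps (χ (q u)) =
        ∑ u : R, eps (χ (q u)) :=
      Finset.sum_subtype _ (fun u => by simp [hR]) _
    rw [hsum]
    let ψ : Dual (ZMod 2) R := (AddMonoidHom.mk' (fun u : R => χ (q u)) fun u v => by
      have : χ (c (u : V) v) = 0 := LinearMap.congr_fun (LinearMap.mem_ker.1 u.2) (v : V)
      simp [hq, this]).toZModLinearMap 2
    change ∑ u : R, eps (ψ u) = _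
    rw [sum_eps]
    have hψ : ψ = 0 := by
      by_contra hc
      refine mul_ne_zero hne hne ?_
      rw [hsq]
      simp only [mul_ite, mul_zero, ← Finset.sum_filter, ← Finset.sum_mul]
      rw [hsum]
      change (∑ u : R, eps (ψ u)) * _ = 0
      rw [sum_eps, if_neg hc, zero_mul]
    rw [if_pos hψ, ← Nat.card_eq_fintype_card, card_pow]
    push_cast; rfl
  obtain ⟨hne, hsq⟩ := hrad χ₀ hχ0
  set m := (S χ₀).natAbs with hm
  have hneg : S χ₀ = -(m : ℤ) := by
    have h1 : (2 : ℤ) ^ a < 2 ^ n := pow_lt_pow_right₀ (by norm_num) hgt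
    have : S χ₀ < 0 := by nlinarith
    omega
  have hm1 : (2 ^ a - 1) * m = 2 ^ n - 2 ^ a := by
    have h1 : 1 ≤ 2 ^ a := Nat.one_le_two_pow
    have h2 : 2 ^ a ≤ 2 ^ n := Nat.pow_le_pow_right (by norm_num) hgt.le
    zify [h1, h2]
    rw [hneg] at hmain
    linarith
  obtain ⟨u, hu⟩ : 2 ^ a ∣ m := by
    refine Nat.Coprime.dvd_of_dvd_mul_left (m := 2 ^ a - 1) ?_ ?_
    · exact Nat.Coprime.pow_left _ (Nat.coprime_two_left.2 (odd_pow_sub_one ha))
    · rw [hm1]
      exact Nat.dvd_sub (pow_dvd_pow _ hgt.le) dvd_rfl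
  have hu' : u * (2 ^ a - 1) = 2 ^ (n - a) - 1 := by
    apply Nat.eq_of_mul_eq_mul_left (show 0 < 2 ^ a by positivity)
    conv_rhs => rw [Nat.mul_sub_one, ← pow_add, Nat.add_sub_cancel' hgt.le, ← hm1, hu]
    ring
  have hall : ∀ χ : Dual (ZMod 2) E, χ ≠ 0 → n = 2 * a ∧
      finrank (ZMod 2) (LinearMap.ker (c.compr₂ χ)) = 0 := by
    intro χ hχ
    have h := (hrad χ hχ).2
    rw [hconst χ hχ, hneg, neg_mul_neg, hu, ← pow_add] at h
    have h' : (2 ^ a * u) ^ 2 = 2 ^ (n + finrank (ZMod 2) (LinearMap.ker (c.compr₂ χ))) := by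
      rw [sq]; exact_mod_cast h
    exact eq_two_mul hgt ha hu' h'
  refine ⟨(hall χ₀ hχ0).1, fun χ hχ v hv => ?_⟩
  have hb := Submodule.finrank_eq_zero.1 (hall χ hχ).2
  have : v ∈ LinearMap.ker (c.compr₂ χ) := LinearMap.ext fun w => hv w
  rw [hb] at this
  simpa using this

/-- No isometry of odd order but `1` fixes a non-zero vector. -/
theorem fpf (q : V → E) (c : V →ₗ[ZMod 2] V →ₗ[ZMod 2] E)
    (hq : ∀ v w, q (v + w) = q v + q w + c v w) (hani : ∀ v, q v = 0 → v = 0)
    (hdim : finrank (ZMod 2) V = 2 * finrank (ZMod 2) E)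
    (hnd : ∀ χ : Dual (ZMod 2) E, χ ≠ 0 → ∀ v, (∀ w, χ (c v w) = 0) → v = 0)
    (L : V ≃ₗ[ZMod 2] V) (hL : ∀ v, q (L v) = q v) {d : ℕ} (hd : Odd d) (hLd : L ^ d = 1)
    {v : V} (hv : v ≠ 0) (hLv : L v = v) : L = 1 := by
  set f : V →ₗ[ZMod 2] V := L.toLinearMap - LinearMap.id with hf
  have hc : ∀ u w, c (L u) (L w) = c u w := fun u w => by
    have h1 := hL (u + w)
    rw [map_add, hq, hq, hL, hL] at h1
    exact add_left_cancel h1
  have hcs : ∀ u : V, c u u = 0 := fun u => by
    have h1 := hq u u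
    have hq0 : q 0 = 0 := by
      have := hq 0 0
      simp only [add_zero, map_zero, LinearMap.zero_apply, vadd_self] at this
      exact this
    rw [vadd_self, hq0, vadd_self, zero_add] at h1
    exact h1.symm
  have hsymm : ∀ u w, c u w = c w u := fun u w => by
    have e := hq u w
    rw [add_comm u w, hq, add_comm (q w) (q u)] at e
    exact (add_left_cancel e).symm
  have horth : ∀ w ∈ LinearMap.ker f, ∀ m ∈ LinearMap.range f, c w m = 0 := by
    rintro w hw _ ⟨u, rfl⟩
    have hw' : L w = w := by simpa [hf, sub_eq_zero] using hw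
    simp only [hf, LinearMap.sub_apply, LinearEquiv.coe_coe, LinearMap.id_apply, map_sub]
    conv_lhs => arg 1; rw [← hw', hc]
    exact sub_self _
  have hdisj : ∀ m ∈ LinearMap.range f, m ∈ LinearMap.ker f → m = 0 := by
    rintro _ ⟨u, rfl⟩ hk
    have h1 : L (f u) = f u := by
      have := LinearMap.mem_ker.1 hk
      simpa [hf, sub_eq_zero] using this
    have h2 : ∀ i : ℕ, (L ^ i) u = u + i • f u := by
      intro i
      induction i with
      | zero => simp
      | succ i ih =>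
        rw [pow_succ', LinearEquiv.mul_apply, ih, map_add, map_nsmul, h1]
        have : L u = u + f u := by simp [hf]
        rw [this, succ_nsmul]
        abel
    have h3 := h2 d
    rw [hLd, LinearEquiv.coe_one, id_eq] at h3
    obtain ⟨j, rfl⟩ := hd
    rw [add_smul, one_smul, mul_comm, mul_smul, two_nsmul, vadd_self, smul_zero, zero_add] at h3
    simpa using h3
  -- kernels of the commutator map have dimension half
  have hK : ∀ w, w ≠ 0 → finrank (ZMod 2) (LinearMap.ker (c w)) = finrank (ZMod 2) E := by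
    intro w hw
    have hsurj : LinearMap.range (c w) = ⊤ := by
      by_contra hne
      obtain ⟨y, hy⟩ : ∃ y, y ∉ LinearMap.range (c w) := by
        by_contra hc'; push Not at hc'; exact hne (eq_top_iff.2 fun y _ => hc' y)
      obtain ⟨χ, hχ1, hχ2⟩ := exists_dual_one _ hy
      exact hw (hnd χ (fun e => by simp [e] at hχ2) w fun u => hχ1 _ ⟨u, rfl⟩)
    have := (c w).finrank_range_add_finrank_ker
    rw [hsurj, finrank_top, hdim] at this
    omega
  by_contra hne
  obtain ⟨u, hu⟩ : ∃ u, f u ≠ 0 := by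
    by_contra hc'; push Not at hc'
    exact hne (LinearEquiv.ext fun u => by simpa [hf, sub_eq_zero] using hc' u)
  have hvk : v ∈ LinearMap.ker f := by simp [hf, hLv]
  have b1 := Submodule.finrank_mono (show LinearMap.range f ⊔ Submodule.span (ZMod 2) {v} ≤
      LinearMap.ker (c v) from sup_le (fun m hm => horth v hvk m hm)
        ((Submodule.span_singleton_le_iff_mem _ _).2 (hcs v)))
  rw [Submodule.finrank_sup_span_singleton (fun h => hv (hdisj v h hvk)), hK v hv] at b1
  have b2 := Submodule.finrank_mono (show LinearMap.ker f ⊔ Submodule.span (ZMod 2) {f u} ≤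
      LinearMap.ker (c (f u)) from sup_le (fun w hw => by
        rw [LinearMap.mem_ker, hsymm]; exact horth w hw _ ⟨u, rfl⟩)
        ((Submodule.span_singleton_le_iff_mem _ _).2 (hcs _)))
  rw [Submodule.finrank_sup_span_singleton (fun h => hu (hdisj _ ⟨u, rfl⟩ h)), hK _ hu] at b2
  have := f.finrank_range_add_finrank_ker
  omega

end Cfsg.Agent.Pyramidal
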